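import Cfsg.Agent.Lib.PrimeGraphG2.Data
import Cfsg.Agent.Lib.Lie.ChevSimple
import Cfsg.Agent.Lib.Lie.OrderG2
import Cfsg.Prelude.Def_ChevG2

/-! The action of G2(3) on the short root ideal and the centralizers of elements of order 7, 13. -/

set_option autoImplicit false
set_option maxRecDepth 20000
set_option linter.style.haveILetI false

namespace Cfsg.Agent.G23

open Matrix Cfsg.Lie

/-- The coordinates of the Lie algebra. -/
abbrev I14 := chevG2.Idx

/-- The coordinates of the short root ideal. -/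
def io7 : Fin 7 → I14 :=
  ![.inl ⟨0, by decide⟩, .inr ⟨2, by decide⟩, .inr ⟨3, by decide⟩, .inr ⟨4, by decide⟩,
    .inr ⟨7, by decide⟩, .inr ⟨8, by decide⟩, .inr ⟨9, by decide⟩]

theorem io7_inj : Function.Injective io7 := by decide

/-- The group. -/
abbrev G3 := ↥(chevG2.group (ZMod 3))

/-- The restriction of a matrix. -/
def rest (g : Matrix chevG2.Idx chevG2.Idx (ZMod 3)) : M7 := Matrix.of fun i j => g (io7 i) (io7 j)

/-- Matrices leaving the ideal and its bracket invariant. -/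
def Good (g : Matrix chevG2.Idx chevG2.Idx (ZMod 3)) : Prop :=
  (∀ a, (∀ i, io7 i ≠ a) → ∀ j, g a (io7 j) = 0) ∧ Pres (rest g)

theorem rest_one : rest 1 = 1 := by
  ext i j
  show (1 : Matrix I14 I14 (ZMod 3)) (io7 i) (io7 j) = (1 : M7) i j
  by_cases h : i = j
  · subst h; simp
  · rw [Matrix.one_apply_ne h, Matrix.one_apply_ne (fun e => h (io7_inj e))]

theorem Good.one : Good 1 := by
  exact ⟨fun a ha j => Matrix.one_apply_ne fun e => ha j e.symm, by rw [rest_one]; exact Pres.one⟩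

theorem entry_mul {g h : Matrix chevG2.Idx chevG2.Idx (ZMod 3)} (hh : Good h) (a : chevG2.Idx)
    (j : Fin 7) : (g * h) a (io7 j) = ∑ l, g a (io7 l) * h (io7 l) (io7 j) := by
  classical
  show ∑ b, g a b * h b (io7 j) = _
  rw [← Finset.sum_image (f := fun b => g a b * h b (io7 j)) fun x _ y _ e => io7_inj e]
  refine (Finset.sum_subset (Finset.subset_univ _) fun b _ hb => ?_).symm
  rw [hh.1 b (fun l e => hb (Finset.mem_image.2 ⟨l, Finset.mem_univ _, e⟩)) j, mul_zero]

theorem rest_mul {g h : Matrix chevG2.Idx chevG2.Idx (ZMod 3)} (hh : Good h) :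
    rest (g * h) = rest g * rest h := by
  ext i j
  rw [Matrix.mul_apply]
  exact entry_mul hh (io7 i) j

theorem Good.mul {g h : Matrix chevG2.Idx chevG2.Idx (ZMod 3)} (hg : Good g) (hh : Good h) :
    Good (g * h) := by
  refine ⟨fun a ha j => ?_, by rw [rest_mul hh]; exact hg.2.mul hh.2⟩
  refine (entry_mul hh a j).trans ?_
  exact Finset.sum_eq_zero fun l _ => by rw [hg.1 a ha l, zero_mul]

theorem Good.pow {g : Matrix chevG2.Idx chevG2.Idx (ZMod 3)} (hg : Good g) :
    ∀ n : ℕ, Good (g ^ n)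
  | 0 => by rw [pow_zero]; exact Good.one
  | n + 1 => by rw [pow_succ]; exact (Good.pow hg n).mul hg

/-- The coded restriction of a generator. -/
def genC (r : Fin chevG2.nroots) (t : ZMod 3) : C7 := gensL.getD (3 * (r : ℕ) + t.val) oneC

theorem genC_mem : ∀ (r : Fin chevG2.nroots) (t : ZMod 3), genC r t ∈ gensL := by decide +kernel

/-- The test on one entry outside the ideal. -/
def zeroOut (r : Fin chevG2.nroots) (t : ZMod 3) (a : I14) (j : Fin 7) : Bool :=
  decide (∃ i, io7 i = a) || decide (chevG2.xMat (ZMod 3) r t a (io7 j) = 0)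

theorem gen_zero : ∀ (r : Fin chevG2.nroots) (t : ZMod 3) (a : I14) (j : Fin 7),
    zeroOut r t a j = true := by decide +kernel

theorem gen_rest : ∀ (r : Fin chevG2.nroots) (t : ZMod 3) (i j : Fin 7),
    chevG2.xMat (ZMod 3) r t (io7 i) (io7 j) = ((ent (genC r t) i.val j.val : ℕ) : ZMod 3) := by
  decide +kernel

theorem gen_entries (r : Fin chevG2.nroots) (t : ZMod 3) :
    (∀ a, (∀ i, io7 i ≠ a) → ∀ j, chevG2.xMat (ZMod 3) r t a (io7 j) = 0) ∧
      ∀ i j, chevG2.xMat (ZMod 3) r t (io7 i) (io7 j) = dC (genC r t) i j := by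
  refine ⟨fun a ha j => ?_, gen_rest r t⟩
  have h := gen_zero r t a j
  simp only [zeroOut, Bool.or_eq_true, decide_eq_true_eq] at h
  exact h.resolve_left fun ⟨i, hi⟩ => ha i hi

theorem gen_good (r : Fin chevG2.nroots) (t : ZMod 3) :
    Good (chevG2.xMat (ZMod 3) r t) ∧ rest (chevG2.xMat (ZMod 3) r t) = dC (genC r t) := by
  have h := gen_entries r t
  have e : rest (chevG2.xMat (ZMod 3) r t) = dC (genC r t) := Matrix.ext h.2
  exact ⟨⟨h.1, by rw [e]; exact (chk_iff _).1 (gens_chk _ (genC_mem r t))⟩, e⟩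

theorem good_mem (g : G3) :
    Good ((g : GL chevG2.Idx (ZMod 3)) : Matrix chevG2.Idx chevG2.Idx (ZMod 3)) := by
  obtain ⟨g, hg⟩ := g
  induction hg using Subgroup.closure_induction with
  | mem x hx =>
    obtain ⟨r, t, hx⟩ := hx
    show Good (x : Matrix chevG2.Idx chevG2.Idx (ZMod 3))
    rw [hx]
    exact (gen_good r t).1
  | one => exact Good.one
  | mul x y _ _ hx hy => exact hx.mul hy
  | inv x _ hx =>
    have e : x⁻¹ = x ^ (orderOf x - 1) := by
      refine inv_eq_of_mul_eq_one_right ?_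
      rw [← pow_succ', Nat.sub_add_cancel (orderOf_pos x), pow_orderOf_eq_one]
    show Good ((x⁻¹ : GL chevG2.Idx (ZMod 3)) : Matrix chevG2.Idx chevG2.Idx (ZMod 3))
    rw [e, Units.val_pow_eq_pow_val]
    exact Good.pow hx _

/-- The action on the ideal. -/
def psi : G3 →* M7 where
  toFun g := rest ((g : GL chevG2.Idx (ZMod 3)) : Matrix chevG2.Idx chevG2.Idx (ZMod 3))
  map_one' := rest_one
  map_mul' g h := rest_mul (good_mem h)

theorem psi_pres (g : G3) : Pres (psi g) := (good_mem g).2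

theorem card_G3 : Nat.card G3 = 4245696 := by
  have h := Chev.Tab.card_group_formula (F := ZMod 3) (T := Chev.G2Data.tab) (q := 3)
    ⟨Chev.G2Data.good, by decide +kernel⟩ (ZMod.card 3)
    Chev.G2Data.torOK Chev.G2Data.chainOK Chev.G2Data.polyOK
  simp only [Chev.G2Data.cert, List.map_cons, List.map_nil, List.prod_cons, List.prod_nil, mul_one,
    pow_zero, pow_one, one_mul, ← mul_assoc] at h
  exact h.trans (by decide +kernel)

theorem isSimple_G3 : IsSimpleGroup G3 := by
  have h : IsSimpleGroup ↥(chevG2.group (ZMod 3)) ∧ ¬ IsMulCommutative ↥(chevG2.group (ZMod 3)) := by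
    obtain ⟨T, g, hT, -⟩ := Chev.exists_goodS (D := Cfsg.Lie.chevG2) (by simp)
    rw [← hT]
    exact Chev.Tab.group_simple g (Or.inr ⟨2, by decide⟩)
  exact h.1

theorem gen_sq : ∀ (r : Fin chevG2.nroots) (t : ZMod 3), (∀ a b,
    (∑ c, chevG2.xMat (ZMod 3) r t a c * chevG2.xMat (ZMod 3) r (-t) c b) = if a = b then 1 else 0) := by
  decide +kernel

theorem gen_isUnit (r : Fin chevG2.nroots) (t : ZMod 3) : IsUnit (chevG2.xMat (ZMod 3) r t) := by
  refine (Matrix.isUnit_iff_isUnit_det _).2 (Matrix.isUnit_det_of_right_inverse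
    (B := chevG2.xMat (ZMod 3) r (-t)) (Matrix.ext fun a b => ?_))
  rw [Matrix.mul_apply, Matrix.one_apply]
  exact gen_sq r t a b

/-- The product of a word. -/
theorem exists_word : ∀ w : List (Fin chevG2.nroots × ZMod 3),
    ∃ g : G3, psi g = dC (w.foldr (fun p A => mulC (genC p.1 p.2) A) oneC)
  | [] => ⟨1, by rw [map_one]; exact dC_one.symm⟩
  | p :: w => by
    obtain ⟨g, hg⟩ := exists_word w
    have hu := gen_isUnit p.1 p.2
    let s : G3 := ⟨hu.unit, Subgroup.subset_closure ⟨p.1, p.2, hu.unit_spec⟩⟩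
    have hs : psi s = dC (genC p.1 p.2) := by
      show rest _ = _
      rw [hu.unit_spec]
      exact (gen_good p.1 p.2).2
    exact ⟨s * g, by rw [map_mul, hs, hg, List.foldr_cons, dC_mul]⟩

theorem psi_injective : Function.Injective psi := by
  haveI := isSimple_G3
  obtain ⟨g, hg⟩ := exists_word sWord
  have hs : psi g ≠ 1 := by
    rw [hg]
    decide +kernel
  refine (injective_iff_map_eq_one psi).2 fun x hx => ?_
  rcases (inferInstance : psi.ker.Normal).eq_bot_or_eq_top with h | h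
  · exact (Subgroup.eq_bot_iff_forall _).1 h x hx
  · exact absurd (MonoidHom.mem_ker.1 (h ▸ Subgroup.mem_top g)) hs

theorem psi_ne_zero (g : G3) : psi g ≠ 0 := fun h => by
  have h1 : psi g * psi g⁻¹ = 1 := by rw [← map_mul, mul_inv_cancel, map_one]
  rw [h, Matrix.zero_mul] at h1
  exact zero_ne_one h1

theorem s_word_eq : sWord.foldr (fun p A => mulC (genC p.1 p.2) A) oneC = sC := by decide +kernel
theorem y_word_eq : yWord.foldr (fun p A => mulC (genC p.1 p.2) A) oneC = yC := by decide +kernel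
theorem z_word_eq : zWord.foldr (fun p A => mulC (genC p.1 p.2) A) oneC = zC := by decide +kernel

theorem exists_order_six : ∃ g : G3, orderOf g = 6 := by
  obtain ⟨g, hg⟩ := exists_word sWord
  replace hg : psi g = dC sC := hg.trans (congrArg dC s_word_eq)
  refine ⟨g, ?_⟩
  rw [← orderOf_injective psi psi_injective, hg]
  obtain ⟨h6, h2, h3⟩ := s_order
  have e6 : dC sC ^ 6 = 1 := by
    have := congrArg dC h6
    simp only [dC_mul, dC_one] at this
    rw [← this]
    simp only [pow_succ, pow_zero, one_mul, Matrix.mul_assoc]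
  have hd := orderOf_dvd_of_pow_eq_one e6
  have hn2 : dC sC ^ 2 ≠ 1 := by rw [pow_two, ← dC_mul]; exact h2
  have hn3 : dC sC ^ 3 ≠ 1 := by rw [pow_succ, pow_two, ← dC_mul, ← dC_mul]; exact h3
  have hle := Nat.le_of_dvd (by norm_num) hd
  have hne : ∀ d, orderOf (dC sC) ∣ d → dC sC ^ d = 1 := fun d h => orderOf_dvd_iff_pow_eq_one.1 h
  generalize hn : orderOf (dC sC) = n at hd hle hne
  have h23 : ¬ n ∣ 2 ∧ ¬ n ∣ 3 := ⟨fun h => hn2 (hne 2 h), fun h => hn3 (hne 3 h)⟩
  interval_cases n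
  all_goals first
    | rfl
    | exact absurd hd (by decide)
    | exact absurd (by decide) h23.1
    | exact absurd (by decide) h23.2

/-- A self-centralizing element of prime order and the exclusion of larger multiples. -/
theorem not_orderOf_mul {p k : ℕ} (hp : p.Prime) (hk : 1 < k)
    (hfac : Nat.factorization 4245696 p = 1) {y : G3} (hy : orderOf y = p)
    (hC : ∀ g : G3, g * y = y * g → g ∈ Subgroup.zpowers y) (g : G3) : orderOf g ≠ p * k := by
  intro hg
  haveI := Fact.mk hp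
  have hh : orderOf (g ^ k) = p := by
    rw [orderOf_pow, hg, Nat.gcd_mul_left_left, Nat.mul_div_cancel _ (by omega)]
  have key : ∀ a : G3, orderOf a = p → ∃ P : Sylow p G3, (P : Subgroup G3) = Subgroup.zpowers a := by
    intro a ha
    obtain ⟨P, hP⟩ := (IsPGroup.of_card (n := 1) (by
      rw [Nat.card_zpowers, ha, pow_one]) : IsPGroup p (Subgroup.zpowers a)).exists_le_sylow
    refine ⟨P, (Subgroup.eq_of_le_of_card_ge hP ?_).symm⟩
    rw [Sylow.card_eq_multiplicity, card_G3, hfac, pow_one, Nat.card_zpowers, ha]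
  obtain ⟨P, hP⟩ := key _ hh
  obtain ⟨Q, hQ⟩ := key _ hy
  obtain ⟨c, hc⟩ := MulAction.exists_smul_eq G3 P Q
  have hmem : y ∈ ((c • P : Sylow p G3) : Subgroup G3) := by
    rw [hc, hQ]; exact Subgroup.mem_zpowers y
  obtain ⟨a, ha, hay⟩ := hmem
  rw [SetLike.mem_coe, hP, Subgroup.mem_zpowers_iff] at ha
  obtain ⟨i, rfl⟩ := ha
  have hay' : c * (g ^ k) ^ i * c⁻¹ = y := hay
  have hcomm : (c * g * c⁻¹) * y = y * (c * g * c⁻¹) := by
    rw [← hay']
    have hgg : g * (g ^ k) ^ i = (g ^ k) ^ i * g := (((Commute.refl g).pow_right k).zpow_right i).eq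
    calc c * g * c⁻¹ * (c * (g ^ k) ^ i * c⁻¹) = c * (g * (g ^ k) ^ i) * c⁻¹ := by group
      _ = c * ((g ^ k) ^ i * g) * c⁻¹ := by rw [hgg]
      _ = c * (g ^ k) ^ i * c⁻¹ * (c * g * c⁻¹) := by group
  have h1 := Subgroup.orderOf_dvd_natCard _ (hC _ hcomm)
  rw [Nat.card_zpowers, hy, show c * g * c⁻¹ = MulAut.conj c g from rfl,
    MulEquiv.orderOf_eq, hg] at h1
  have := Nat.le_of_dvd hp.pos h1
  nlinarith [hp.pos]

theorem self_cent {Y Ki : C7} {L : List C7} {n : ℕ} [Fact n.Prime] {y : G3}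
    (hyY : psi y = dC Y) (hK : mulC (krylovC Y [0, 0, 0, 0, 0, 0, 1]) Ki = oneC)
    (hc : (vecs 7).all (fun w => !chk (mulC (krylovC Y w) Ki) ||
      ((zeroC :: L).contains (mulC (krylovC Y w) Ki))) = true)
    (hL : ∀ A ∈ L, ∃ i : Fin n, dC A = dC Y ^ (i : ℕ)) (hn1 : dC Y ^ n = 1) (hne : dC Y ≠ 1) :
    orderOf y = n ∧ ∀ g : G3, g * y = y * g → g ∈ Subgroup.zpowers y := by
  refine ⟨orderOf_eq_prime (psi_injective (by rw [map_pow, hyY, hn1, map_one]))
    (fun h => hne (by rw [← hyY, h, map_one])), fun g hg => ?_⟩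
  obtain ⟨A, hA, hgA⟩ := cand hK hc (psi_pres g) (psi_ne_zero g)
    (by rw [← hyY, ← map_mul, ← map_mul, hg])
  obtain ⟨i, hi⟩ := hL A hA
  refine Subgroup.mem_zpowers_iff.2 ⟨((i : ℕ) : ℤ), psi_injective ?_⟩
  rw [zpow_natCast, map_pow, hyY, ← hi, hgA]

theorem exists_seven : ∃ y : G3, orderOf y = 7 ∧ ∀ g : G3, g * y = y * g → g ∈ Subgroup.zpowers y := by
  obtain ⟨y, hy⟩ := exists_word yWord
  replace hy : psi y = dC yC := hy.trans (congrArg dC y_word_eq)
  haveI : Fact (Nat.Prime 7) := ⟨by norm_num⟩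
  exact ⟨y, self_cent hy y_ki y_check y_pows (by decide +kernel) (by decide +kernel)⟩

theorem exists_thirteen :
    ∃ y : G3, orderOf y = 13 ∧ ∀ g : G3, g * y = y * g → g ∈ Subgroup.zpowers y := by
  obtain ⟨y, hy⟩ := exists_word zWord
  replace hy : psi y = dC zC := hy.trans (congrArg dC z_word_eq)
  haveI : Fact (Nat.Prime 13) := ⟨by norm_num⟩
  exact ⟨y, self_cent hy z_ki z_check z_pows (by decide +kernel) (by decide +kernel)⟩

end Cfsg.Agent.G23
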