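import Mathlib

/-! Seven by seven matrices over the field with three elements, coded by lists of natural numbers,
and the matrices preserving a given bilinear bracket. -/

set_option autoImplicit false

namespace Cfsg.Agent.G23

open Matrix

/-- Seven by seven matrices over the field with three elements. -/
abbrev M7 := Matrix (Fin 7) (Fin 7) (ZMod 3)

/-- Coded matrices. -/
abbrev C7 := List (List ℕ)

/-- A coded entry. -/
def ent (A : C7) (i j : ℕ) : ℕ := (A.getD i []).getD j 0

/-- Decoding. -/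
def dC (A : C7) : M7 := Matrix.of fun i j => ((ent A i j : ℕ) : ZMod 3)

theorem dC_apply (A : C7) (i j : Fin 7) : dC A i j = ((ent A i j : ℕ) : ZMod 3) := rfl

/-- The coded identity. -/
def oneC : C7 := (List.range 7).map fun i => (List.range 7).map fun j => if i = j then 1 else 0

/-- The coded product. -/
def mulC (A B : C7) : C7 :=
  (List.range 7).map fun i => (List.range 7).map fun j =>
    (ent A i 0 * ent B 0 j + ent A i 1 * ent B 1 j + ent A i 2 * ent B 2 j + ent A i 3 * ent B 3 j +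
      ent A i 4 * ent B 4 j + ent A i 5 * ent B 5 j + ent A i 6 * ent B 6 j) % 3

theorem ent_table (f : ℕ → ℕ → ℕ) (i j : Fin 7) :
    ent ((List.range 7).map fun a => (List.range 7).map fun b => f a b) i j = f i j := by
  simp [ent, List.getD_eq_getElem?_getD, i.2, j.2]

theorem dC_one : dC oneC = 1 := by
  ext i j
  rw [dC_apply, oneC, ent_table (fun a b => if a = b then 1 else 0)]
  by_cases h : i = j <;> simp [h, Matrix.one_apply, Fin.val_inj]

theorem dC_mul (A B : C7) : dC (mulC A B) = dC A * dC B := by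
  ext i j
  rw [dC_apply, mulC, ent_table, ZMod.natCast_mod, Matrix.mul_apply, Fin.sum_univ_seven]
  simp only [dC_apply]
  push_cast
  rfl

/-- The coded vectors. -/
def vecs : ℕ → List (List ℕ)
  | 0 => [[]]
  | n + 1 => (vecs n).flatMap fun v => [0, 1, 2].map (· :: v)

theorem mem_vecs : ∀ (n : ℕ) (f : Fin n → ℕ), (∀ i, f i < 3) → List.ofFn f ∈ vecs n := by
  intro n
  induction n with
  | zero => intro f _; simp [vecs]
  | succ n ih =>
    intro f hf
    rw [List.ofFn_succ, vecs, List.mem_flatMap]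
    refine ⟨_, ih _ fun i => hf i.succ, List.mem_map.2 ⟨f 0, ?_, rfl⟩⟩
    have := hf 0
    simp only [List.mem_cons, List.not_mem_nil, or_false]
    omega

/-- Coded matrix times vector. -/
def mvC (A : C7) (v : List ℕ) : List ℕ :=
  (List.range 7).map fun i =>
    (ent A i 0 * v.getD 0 0 + ent A i 1 * v.getD 1 0 + ent A i 2 * v.getD 2 0 +
      ent A i 3 * v.getD 3 0 + ent A i 4 * v.getD 4 0 + ent A i 5 * v.getD 5 0 +
      ent A i 6 * v.getD 6 0) % 3

/-- Decoding a vector. -/
def dV (v : List ℕ) : Fin 7 → ZMod 3 := fun i => ((v.getD i 0 : ℕ) : ZMod 3)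

theorem dV_mv (A : C7) (v : List ℕ) : dV (mvC A v) = dC A *ᵥ dV v := by
  funext i
  simp only [dV, mvC, Matrix.mulVec, dotProduct, Fin.sum_univ_seven, dC_apply]
  simp [List.getD_eq_getElem?_getD, i.2, ZMod.natCast_mod]

theorem dV_ofFn (w : Fin 7 → ZMod 3) : dV (List.ofFn fun i => (w i).val) = w := by
  funext i
  fin_cases i <;> simp [dV]

/-- The Krylov matrix of a vector. -/
def krylov (Y : M7) (v : Fin 7 → ZMod 3) : M7 := Matrix.of fun i j => ((Y ^ (j : ℕ)) *ᵥ v) i

/-- The coded Krylov matrix. -/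
def krylovC (Y : C7) (v : List ℕ) : C7 :=
  let v1 := mvC Y v
  let v2 := mvC Y v1
  let v3 := mvC Y v2
  let v4 := mvC Y v3
  let v5 := mvC Y v4
  let v6 := mvC Y v5
  (List.range 7).map fun i => [v.getD i 0, v1.getD i 0, v2.getD i 0, v3.getD i 0, v4.getD i 0,
    v5.getD i 0, v6.getD i 0]

theorem dC_krylov (Y : C7) (v : List ℕ) : dC (krylovC Y v) = krylov (dC Y) (dV v) := by
  have hit : ∀ n : ℕ, dV (Nat.rec v (fun _ u => mvC Y u) n) = (dC Y ^ n) *ᵥ dV v := by
    intro n
    induction n with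
    | zero => rw [pow_zero, one_mulVec]; rfl
    | succ n ih => rw [pow_succ', ← Matrix.mulVec_mulVec, ← ih, ← dV_mv]
  ext i j
  show _ = ((dC Y ^ (j : ℕ)) *ᵥ dV v) i
  rw [← hit]
  simp only [dC_apply, krylovC, ent, dV]
  fin_cases j <;> simp [List.getD_eq_getElem?_getD, i.2]

theorem mul_krylov {M Y : M7} (h : M * Y = Y * M) (v : Fin 7 → ZMod 3) :
    M * krylov Y v = krylov Y (M *ᵥ v) := by
  ext i j
  have : (M * krylov Y v) i j = (M *ᵥ ((Y ^ (j : ℕ)) *ᵥ v)) i := rfl
  rw [this, Matrix.mulVec_mulVec, (show Commute M Y from h).pow_right (j : ℕ), ← Matrix.mulVec_mulVec]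
  rfl

end Cfsg.Agent.G23
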