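import Cfsg.Agent.Lib.PrimeGraphG2.Code

/-! The short root ideal of the Lie algebra of type G2 in characteristic three: data and checks. -/

set_option autoImplicit false
set_option maxRecDepth 20000

namespace Cfsg.Agent.G23

open Matrix

/-- The structure constants of the bracket on the short root ideal. -/
def termsL : List (List (Fin 7 × Fin 7 × ℕ)) :=
  [[(1, 6, 1), (2, 5, 2), (3, 4, 2), (4, 3, 1), (5, 2, 1), (6, 1, 2)],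
   [(0, 1, 2), (1, 0, 1), (2, 3, 1), (3, 2, 2)],
   [(0, 2, 1), (1, 4, 1), (2, 0, 2), (4, 1, 2)],
   [(0, 3, 1), (1, 5, 2), (3, 0, 2), (5, 1, 1)],
   [(0, 4, 2), (2, 6, 2), (4, 0, 1), (6, 2, 1)],
   [(0, 5, 2), (3, 6, 1), (5, 0, 1), (6, 3, 2)],
   [(0, 6, 1), (4, 5, 1), (5, 4, 2), (6, 0, 2)]]

/-- The restrictions of the generators. -/
def gensL : List C7 :=
  [[[1, 0, 0, 0, 0, 0, 0], [0, 1, 0, 0, 0, 0, 0], [0, 0, 1, 0, 0, 0, 0], [0, 0, 0, 1, 0, 0, 0], [0, 0, 0, 0, 1, 0, 0], [0, 0, 0, 0, 0, 1, 0], [0, 0, 0, 0, 0, 0, 1]],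
   [[1, 0, 0, 0, 0, 0, 0], [0, 1, 0, 0, 0, 1, 0], [0, 0, 1, 0, 0, 0, 2], [0, 0, 0, 1, 0, 0, 0], [0, 0, 0, 0, 1, 0, 0], [0, 0, 0, 0, 0, 1, 0], [0, 0, 0, 0, 0, 0, 1]],
   [[1, 0, 0, 0, 0, 0, 0], [0, 1, 0, 0, 0, 2, 0], [0, 0, 1, 0, 0, 0, 1], [0, 0, 0, 1, 0, 0, 0], [0, 0, 0, 0, 1, 0, 0], [0, 0, 0, 0, 0, 1, 0], [0, 0, 0, 0, 0, 0, 1]],
   [[1, 0, 0, 0, 0, 0, 0], [0, 1, 0, 0, 0, 0, 0], [0, 0, 1, 0, 0, 0, 0], [0, 0, 0, 1, 0, 0, 0], [0, 0, 0, 0, 1, 0, 0], [0, 0, 0, 0, 0, 1, 0], [0, 0, 0, 0, 0, 0, 1]],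
   [[1, 0, 0, 0, 0, 0, 0], [0, 1, 0, 0, 1, 0, 0], [0, 0, 1, 0, 0, 0, 0], [0, 0, 0, 1, 0, 0, 2], [0, 0, 0, 0, 1, 0, 0], [0, 0, 0, 0, 0, 1, 0], [0, 0, 0, 0, 0, 0, 1]],
   [[1, 0, 0, 0, 0, 0, 0], [0, 1, 0, 0, 2, 0, 0], [0, 0, 1, 0, 0, 0, 0], [0, 0, 0, 1, 0, 0, 1], [0, 0, 0, 0, 1, 0, 0], [0, 0, 0, 0, 0, 1, 0], [0, 0, 0, 0, 0, 0, 1]],
   [[1, 0, 0, 0, 0, 0, 0], [0, 1, 0, 0, 0, 0, 0], [0, 0, 1, 0, 0, 0, 0], [0, 0, 0, 1, 0, 0, 0], [0, 0, 0, 0, 1, 0, 0], [0, 0, 0, 0, 0, 1, 0], [0, 0, 0, 0, 0, 0, 1]],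
   [[1, 0, 0, 0, 0, 0, 1], [1, 1, 0, 0, 0, 0, 2], [0, 0, 1, 0, 1, 0, 0], [0, 0, 0, 1, 0, 2, 0], [0, 0, 0, 0, 1, 0, 0], [0, 0, 0, 0, 0, 1, 0], [0, 0, 0, 0, 0, 0, 1]],
   [[1, 0, 0, 0, 0, 0, 2], [2, 1, 0, 0, 0, 0, 2], [0, 0, 1, 0, 2, 0, 0], [0, 0, 0, 1, 0, 1, 0], [0, 0, 0, 0, 1, 0, 0], [0, 0, 0, 0, 0, 1, 0], [0, 0, 0, 0, 0, 0, 1]],
   [[1, 0, 0, 0, 0, 0, 0], [0, 1, 0, 0, 0, 0, 0], [0, 0, 1, 0, 0, 0, 0], [0, 0, 0, 1, 0, 0, 0], [0, 0, 0, 0, 1, 0, 0], [0, 0, 0, 0, 0, 1, 0], [0, 0, 0, 0, 0, 0, 1]],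
   [[1, 0, 0, 0, 0, 2, 0], [0, 1, 0, 1, 0, 0, 0], [2, 0, 1, 0, 0, 2, 0], [0, 0, 0, 1, 0, 0, 0], [0, 0, 0, 0, 1, 0, 2], [0, 0, 0, 0, 0, 1, 0], [0, 0, 0, 0, 0, 0, 1]],
   [[1, 0, 0, 0, 0, 1, 0], [0, 1, 0, 2, 0, 0, 0], [1, 0, 1, 0, 0, 2, 0], [0, 0, 0, 1, 0, 0, 0], [0, 0, 0, 0, 1, 0, 1], [0, 0, 0, 0, 0, 1, 0], [0, 0, 0, 0, 0, 0, 1]],
   [[1, 0, 0, 0, 0, 0, 0], [0, 1, 0, 0, 0, 0, 0], [0, 0, 1, 0, 0, 0, 0], [0, 0, 0, 1, 0, 0, 0], [0, 0, 0, 0, 1, 0, 0], [0, 0, 0, 0, 0, 1, 0], [0, 0, 0, 0, 0, 0, 1]],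
   [[1, 0, 0, 0, 2, 0, 0], [0, 1, 2, 0, 0, 0, 0], [0, 0, 1, 0, 0, 0, 0], [2, 0, 0, 1, 2, 0, 0], [0, 0, 0, 0, 1, 0, 0], [0, 0, 0, 0, 0, 1, 1], [0, 0, 0, 0, 0, 0, 1]],
   [[1, 0, 0, 0, 1, 0, 0], [0, 1, 1, 0, 0, 0, 0], [0, 0, 1, 0, 0, 0, 0], [1, 0, 0, 1, 2, 0, 0], [0, 0, 0, 0, 1, 0, 0], [0, 0, 0, 0, 0, 1, 2], [0, 0, 0, 0, 0, 0, 1]],
   [[1, 0, 0, 0, 0, 0, 0], [0, 1, 0, 0, 0, 0, 0], [0, 0, 1, 0, 0, 0, 0], [0, 0, 0, 1, 0, 0, 0], [0, 0, 0, 0, 1, 0, 0], [0, 0, 0, 0, 0, 1, 0], [0, 0, 0, 0, 0, 0, 1]],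
   [[1, 0, 0, 0, 0, 0, 0], [0, 1, 0, 0, 0, 0, 0], [0, 0, 1, 2, 0, 0, 0], [0, 0, 0, 1, 0, 0, 0], [0, 0, 0, 0, 1, 1, 0], [0, 0, 0, 0, 0, 1, 0], [0, 0, 0, 0, 0, 0, 1]],
   [[1, 0, 0, 0, 0, 0, 0], [0, 1, 0, 0, 0, 0, 0], [0, 0, 1, 1, 0, 0, 0], [0, 0, 0, 1, 0, 0, 0], [0, 0, 0, 0, 1, 2, 0], [0, 0, 0, 0, 0, 1, 0], [0, 0, 0, 0, 0, 0, 1]],
   [[1, 0, 0, 0, 0, 0, 0], [0, 1, 0, 0, 0, 0, 0], [0, 0, 1, 0, 0, 0, 0], [0, 0, 0, 1, 0, 0, 0], [0, 0, 0, 0, 1, 0, 0], [0, 0, 0, 0, 0, 1, 0], [0, 0, 0, 0, 0, 0, 1]],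
   [[1, 0, 0, 0, 0, 0, 0], [0, 1, 0, 0, 0, 0, 0], [0, 0, 1, 0, 0, 0, 0], [0, 0, 2, 1, 0, 0, 0], [0, 0, 0, 0, 1, 0, 0], [0, 0, 0, 0, 1, 1, 0], [0, 0, 0, 0, 0, 0, 1]],
   [[1, 0, 0, 0, 0, 0, 0], [0, 1, 0, 0, 0, 0, 0], [0, 0, 1, 0, 0, 0, 0], [0, 0, 1, 1, 0, 0, 0], [0, 0, 0, 0, 1, 0, 0], [0, 0, 0, 0, 2, 1, 0], [0, 0, 0, 0, 0, 0, 1]],
   [[1, 0, 0, 0, 0, 0, 0], [0, 1, 0, 0, 0, 0, 0], [0, 0, 1, 0, 0, 0, 0], [0, 0, 0, 1, 0, 0, 0], [0, 0, 0, 0, 1, 0, 0], [0, 0, 0, 0, 0, 1, 0], [0, 0, 0, 0, 0, 0, 1]],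
   [[1, 0, 0, 1, 0, 0, 0], [0, 1, 0, 0, 0, 0, 0], [0, 2, 1, 0, 0, 0, 0], [0, 0, 0, 1, 0, 0, 0], [1, 0, 0, 2, 1, 0, 0], [0, 0, 0, 0, 0, 1, 0], [0, 0, 0, 0, 0, 1, 1]],
   [[1, 0, 0, 2, 0, 0, 0], [0, 1, 0, 0, 0, 0, 0], [0, 1, 1, 0, 0, 0, 0], [0, 0, 0, 1, 0, 0, 0], [2, 0, 0, 2, 1, 0, 0], [0, 0, 0, 0, 0, 1, 0], [0, 0, 0, 0, 0, 2, 1]],
   [[1, 0, 0, 0, 0, 0, 0], [0, 1, 0, 0, 0, 0, 0], [0, 0, 1, 0, 0, 0, 0], [0, 0, 0, 1, 0, 0, 0], [0, 0, 0, 0, 1, 0, 0], [0, 0, 0, 0, 0, 1, 0], [0, 0, 0, 0, 0, 0, 1]],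
   [[1, 0, 1, 0, 0, 0, 0], [0, 1, 0, 0, 0, 0, 0], [0, 0, 1, 0, 0, 0, 0], [0, 1, 0, 1, 0, 0, 0], [0, 0, 0, 0, 1, 0, 0], [1, 0, 2, 0, 0, 1, 0], [0, 0, 0, 0, 2, 0, 1]],
   [[1, 0, 2, 0, 0, 0, 0], [0, 1, 0, 0, 0, 0, 0], [0, 0, 1, 0, 0, 0, 0], [0, 2, 0, 1, 0, 0, 0], [0, 0, 0, 0, 1, 0, 0], [2, 0, 2, 0, 0, 1, 0], [0, 0, 0, 0, 1, 0, 1]],
   [[1, 0, 0, 0, 0, 0, 0], [0, 1, 0, 0, 0, 0, 0], [0, 0, 1, 0, 0, 0, 0], [0, 0, 0, 1, 0, 0, 0], [0, 0, 0, 0, 1, 0, 0], [0, 0, 0, 0, 0, 1, 0], [0, 0, 0, 0, 0, 0, 1]],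
   [[1, 2, 0, 0, 0, 0, 0], [0, 1, 0, 0, 0, 0, 0], [0, 0, 1, 0, 0, 0, 0], [0, 0, 0, 1, 0, 0, 0], [0, 0, 1, 0, 1, 0, 0], [0, 0, 0, 2, 0, 1, 0], [2, 2, 0, 0, 0, 0, 1]],
   [[1, 1, 0, 0, 0, 0, 0], [0, 1, 0, 0, 0, 0, 0], [0, 0, 1, 0, 0, 0, 0], [0, 0, 0, 1, 0, 0, 0], [0, 0, 2, 0, 1, 0, 0], [0, 0, 0, 1, 0, 1, 0], [1, 2, 0, 0, 0, 0, 1]],
   [[1, 0, 0, 0, 0, 0, 0], [0, 1, 0, 0, 0, 0, 0], [0, 0, 1, 0, 0, 0, 0], [0, 0, 0, 1, 0, 0, 0], [0, 0, 0, 0, 1, 0, 0], [0, 0, 0, 0, 0, 1, 0], [0, 0, 0, 0, 0, 0, 1]],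
   [[1, 0, 0, 0, 0, 0, 0], [0, 1, 0, 0, 0, 0, 0], [0, 0, 1, 0, 0, 0, 0], [0, 0, 0, 1, 0, 0, 0], [0, 1, 0, 0, 1, 0, 0], [0, 0, 0, 0, 0, 1, 0], [0, 0, 0, 2, 0, 0, 1]],
   [[1, 0, 0, 0, 0, 0, 0], [0, 1, 0, 0, 0, 0, 0], [0, 0, 1, 0, 0, 0, 0], [0, 0, 0, 1, 0, 0, 0], [0, 2, 0, 0, 1, 0, 0], [0, 0, 0, 0, 0, 1, 0], [0, 0, 0, 1, 0, 0, 1]],
   [[1, 0, 0, 0, 0, 0, 0], [0, 1, 0, 0, 0, 0, 0], [0, 0, 1, 0, 0, 0, 0], [0, 0, 0, 1, 0, 0, 0], [0, 0, 0, 0, 1, 0, 0], [0, 0, 0, 0, 0, 1, 0], [0, 0, 0, 0, 0, 0, 1]],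
   [[1, 0, 0, 0, 0, 0, 0], [0, 1, 0, 0, 0, 0, 0], [0, 0, 1, 0, 0, 0, 0], [0, 0, 0, 1, 0, 0, 0], [0, 0, 0, 0, 1, 0, 0], [0, 1, 0, 0, 0, 1, 0], [0, 0, 2, 0, 0, 0, 1]],
   [[1, 0, 0, 0, 0, 0, 0], [0, 1, 0, 0, 0, 0, 0], [0, 0, 1, 0, 0, 0, 0], [0, 0, 0, 1, 0, 0, 0], [0, 0, 0, 0, 1, 0, 0], [0, 2, 0, 0, 0, 1, 0], [0, 0, 1, 0, 0, 0, 1]]]

/-- A word in the generators. -/
def sWord : List (Fin 12 × ZMod 3) :=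
  [(2, 1), (9, 1), (1, 1), (4, 1), (1, 2), (7, 2), (7, 1), (7, 2), (10, 1), (6, 1), (3, 1), (1, 2)]

/-- Its matrix. -/
def sC : C7 :=
  [[0, 0, 0, 2, 2, 2, 1], [0, 1, 1, 2, 1, 2, 2], [2, 0, 0, 2, 1, 1, 1], [1, 1, 2, 2, 0, 1, 0], [0, 2, 2, 1, 2, 2, 0], [2, 1, 1, 0, 0, 2, 0], [2, 1, 2, 0, 2, 2, 1]]

/-- A word in the generators. -/
def yWord : List (Fin 12 × ZMod 3) :=
  [(2, 1), (9, 1), (1, 1), (4, 1), (1, 2), (7, 2), (7, 1), (7, 2), (10, 1)]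

/-- Its matrix. -/
def yC : C7 :=
  [[0, 0, 2, 2, 0, 2, 1], [1, 1, 2, 1, 1, 1, 2], [2, 0, 2, 2, 1, 0, 0], [0, 1, 0, 1, 1, 0, 2], [2, 2, 1, 2, 1, 0, 0], [0, 1, 0, 2, 1, 0, 1], [1, 1, 1, 2, 1, 2, 1]]

/-- The inverse of the Krylov matrix of the cyclic vector. -/
def yKi : C7 :=
  [[2, 0, 2, 1, 2, 1, 1], [2, 0, 0, 1, 1, 0, 0], [1, 1, 0, 2, 2, 2, 0], [0, 2, 1, 0, 0, 2, 0], [1, 0, 2, 2, 1, 1, 0], [1, 2, 1, 0, 0, 1, 0], [0, 1, 2, 2, 1, 0, 0]]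

/-- The powers. -/
def yPows : List C7 :=
  [[[1, 0, 0, 0, 0, 0, 0], [0, 1, 0, 0, 0, 0, 0], [0, 0, 1, 0, 0, 0, 0], [0, 0, 0, 1, 0, 0, 0], [0, 0, 0, 0, 1, 0, 0], [0, 0, 0, 0, 0, 1, 0], [0, 0, 0, 0, 0, 0, 1]],
   [[0, 0, 2, 2, 0, 2, 1], [1, 1, 2, 1, 1, 1, 2], [2, 0, 2, 2, 1, 0, 0], [0, 1, 0, 1, 1, 0, 2], [2, 2, 1, 2, 1, 0, 0], [0, 1, 0, 2, 1, 0, 1], [1, 1, 1, 2, 1, 2, 1]],
   [[2, 2, 2, 0, 1, 2, 1], [0, 1, 2, 1, 2, 1, 2], [0, 1, 0, 0, 2, 1, 0], [2, 0, 2, 2, 2, 2, 0], [0, 0, 2, 0, 0, 0, 1], [1, 0, 1, 1, 2, 0, 1], [0, 2, 2, 0, 2, 2, 1]],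
   [[0, 1, 2, 0, 2, 2, 0], [2, 0, 1, 1, 0, 2, 1], [2, 0, 1, 1, 1, 1, 0], [2, 2, 1, 0, 2, 1, 2], [2, 1, 2, 0, 0, 2, 1], [1, 0, 1, 2, 2, 1, 1], [2, 0, 2, 1, 0, 1, 1]],
   [[0, 1, 2, 1, 1, 1, 1], [0, 1, 1, 1, 2, 0, 1], [1, 1, 1, 2, 1, 1, 2], [1, 0, 2, 0, 2, 1, 0], [0, 1, 2, 0, 0, 1, 1], [1, 2, 1, 2, 1, 1, 1], [2, 0, 0, 1, 2, 0, 0]],
   [[2, 0, 2, 0, 1, 0, 0], [2, 1, 1, 1, 0, 0, 2], [1, 2, 0, 0, 2, 1, 1], [2, 2, 2, 0, 2, 2, 2], [0, 0, 1, 0, 2, 0, 1], [1, 2, 1, 2, 2, 0, 2], [1, 2, 0, 0, 0, 1, 1]],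
   [[0, 2, 0, 1, 0, 1, 2], [2, 1, 1, 0, 2, 0, 2], [1, 2, 0, 0, 0, 0, 1], [0, 1, 1, 1, 1, 1, 1], [1, 2, 2, 2, 1, 2, 1], [1, 1, 0, 1, 0, 2, 2], [0, 1, 1, 2, 1, 0, 1]]]

/-- A word in the generators. -/
def zWord : List (Fin 12 × ZMod 3) :=
  [(2, 1), (9, 1), (1, 1), (4, 1), (1, 2), (7, 2)]

/-- Its matrix. -/
def zC : C7 :=
  [[0, 0, 2, 0, 0, 2, 1], [1, 0, 2, 0, 1, 1, 2], [2, 2, 2, 2, 1, 0, 0], [0, 0, 0, 0, 1, 0, 2], [2, 1, 1, 2, 1, 0, 0], [0, 0, 0, 0, 1, 0, 1], [1, 0, 1, 0, 1, 2, 1]]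

/-- The inverse of the Krylov matrix of the cyclic vector. -/
def zKi : C7 :=
  [[0, 0, 0, 0, 0, 2, 1], [2, 2, 0, 0, 0, 1, 0], [2, 1, 2, 0, 1, 2, 0], [0, 2, 1, 0, 2, 2, 0], [1, 0, 2, 0, 1, 2, 0], [1, 2, 0, 2, 0, 0, 0], [1, 0, 1, 0, 0, 2, 0]]

/-- The powers. -/
def zPows : List C7 :=
  [[[1, 0, 0, 0, 0, 0, 0], [0, 1, 0, 0, 0, 0, 0], [0, 0, 1, 0, 0, 0, 0], [0, 0, 0, 1, 0, 0, 0], [0, 0, 0, 0, 1, 0, 0], [0, 0, 0, 0, 0, 1, 0], [0, 0, 0, 0, 0, 0, 1]],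
   [[0, 0, 2, 0, 0, 2, 1], [1, 0, 2, 0, 1, 1, 2], [2, 2, 2, 2, 1, 0, 0], [0, 0, 0, 0, 1, 0, 2], [2, 1, 1, 2, 1, 0, 0], [0, 0, 0, 0, 1, 0, 1], [1, 0, 1, 0, 1, 2, 1]],
   [[2, 1, 2, 1, 2, 2, 0], [2, 2, 0, 0, 0, 0, 1], [2, 2, 1, 0, 1, 0, 1], [1, 1, 0, 2, 0, 1, 2], [2, 0, 0, 1, 2, 2, 2], [0, 1, 2, 2, 2, 2, 1], [2, 0, 0, 1, 2, 1, 1]],
   [[0, 0, 0, 2, 2, 2, 2], [0, 0, 0, 0, 0, 2, 1], [1, 0, 0, 1, 2, 2, 1], [0, 0, 0, 0, 0, 1, 1], [0, 2, 2, 1, 1, 2, 2], [1, 0, 0, 2, 1, 0, 0], [2, 2, 1, 1, 2, 0, 0]],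
   [[0, 2, 1, 1, 2, 1, 2], [1, 0, 1, 0, 0, 2, 0], [2, 2, 2, 1, 0, 1, 0], [1, 0, 1, 0, 2, 2, 2], [1, 2, 2, 0, 1, 0, 1], [2, 1, 0, 2, 0, 2, 2], [2, 1, 0, 0, 0, 0, 2]],
   [[1, 1, 1, 0, 0, 0, 0], [2, 2, 1, 2, 0, 2, 0], [0, 1, 0, 1, 0, 0, 0], [2, 1, 2, 0, 1, 0, 2], [0, 2, 0, 0, 0, 0, 0], [0, 0, 2, 0, 1, 0, 0], [0, 0, 2, 0, 0, 0, 0]],
   [[0, 2, 0, 2, 2, 0, 0], [1, 2, 1, 2, 1, 0, 0], [1, 0, 2, 0, 2, 1, 1], [0, 2, 1, 0, 0, 0, 0], [2, 0, 1, 0, 2, 2, 1], [0, 2, 2, 0, 0, 0, 0], [1, 1, 1, 1, 2, 0, 0]],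
   [[0, 2, 0, 1, 0, 2, 2], [0, 0, 0, 1, 0, 1, 0], [0, 0, 0, 2, 0, 1, 0], [1, 2, 0, 2, 0, 2, 1], [1, 1, 0, 0, 0, 0, 2], [0, 1, 2, 1, 1, 2, 1], [1, 1, 2, 0, 2, 0, 2]],
   [[1, 0, 0, 0, 1, 0, 1], [0, 0, 0, 0, 2, 0, 0], [0, 0, 0, 0, 0, 0, 2], [0, 0, 1, 0, 1, 0, 0], [0, 0, 0, 0, 0, 1, 2], [2, 2, 2, 0, 2, 0, 1], [2, 0, 0, 2, 1, 1, 2]],
   [[0, 1, 1, 2, 2, 1, 2], [1, 2, 2, 1, 2, 0, 0], [2, 0, 2, 0, 2, 1, 2], [1, 0, 0, 1, 2, 0, 0], [2, 0, 2, 0, 0, 1, 0], [2, 0, 0, 2, 1, 2, 1], [1, 1, 1, 2, 0, 2, 0]],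
   [[0, 1, 2, 0, 0, 2, 0], [1, 0, 0, 2, 1, 1, 1], [1, 0, 0, 2, 1, 2, 2], [1, 2, 1, 1, 0, 2, 0], [1, 1, 2, 1, 0, 1, 0], [0, 1, 0, 2, 0, 0, 0], [0, 2, 0, 2, 0, 0, 0]],
   [[2, 1, 0, 1, 2, 1, 1], [0, 1, 1, 2, 2, 1, 1], [1, 1, 2, 2, 1, 0, 0], [1, 2, 2, 2, 0, 1, 0], [2, 1, 2, 1, 2, 0, 0], [1, 0, 2, 0, 0, 1, 0], [2, 0, 1, 0, 1, 2, 2]],
   [[0, 2, 0, 1, 0, 1, 2], [2, 1, 1, 0, 2, 0, 2], [1, 2, 0, 0, 0, 0, 1], [0, 1, 1, 1, 1, 1, 1], [0, 0, 0, 2, 0, 2, 0], [1, 1, 0, 1, 0, 2, 2], [0, 0, 0, 1, 0, 2, 0]]]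

/-- The bracket, one matrix for each coordinate. -/
def tmat (k : Fin 7) : M7 :=
  ((termsL.getD k []).map fun t => Matrix.single t.1 t.2.1 ((t.2.2 : ℕ) : ZMod 3)).sum

/-- Preserving the bracket. -/
def Pres (M : M7) : Prop := ∀ k, Mᵀ * tmat k * M = ∑ l, M k l • tmat l

theorem Pres.mul {M N : M7} (hM : Pres M) (hN : Pres N) : Pres (M * N) := fun k => by
  rw [Matrix.transpose_mul, show Nᵀ * Mᵀ * tmat k * (M * N) = Nᵀ * (Mᵀ * tmat k * M) * N by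
    simp only [Matrix.mul_assoc], hM, Matrix.mul_sum, Matrix.sum_mul]
  simp only [Matrix.mul_smul, Matrix.smul_mul, hN _, Finset.smul_sum, smul_smul]
  rw [Finset.sum_comm]
  refine Finset.sum_congr rfl fun m _ => ?_
  rw [← Finset.sum_smul, Matrix.mul_apply]

theorem Pres.one : Pres 1 := fun k => by
  rw [Matrix.transpose_one, Matrix.one_mul, Matrix.mul_one, Finset.sum_eq_single k]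
  · rw [Matrix.one_apply_eq, one_smul]
  · intro b _ hb; rw [Matrix.one_apply_ne (Ne.symm hb), zero_smul]
  · intro h; exact absurd (Finset.mem_univ _) h

/-- Coded left side. -/
def lhsC (A : C7) (k i j : Fin 7) : ℕ :=
  ((termsL.getD k []).map fun t => t.2.2 * ent A t.1 i * ent A t.2.1 j).sum

/-- Coded tensor entry. -/
def tE (l i j : Fin 7) : ℕ :=
  ((termsL.getD l []).map fun t => if t.1 = i ∧ t.2.1 = j then t.2.2 else 0).sum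

/-- Coded right side. -/
def rhsC (A : C7) (k i j : Fin 7) : ℕ :=
  ent A k 0 * tE 0 i j + ent A k 1 * tE 1 i j + ent A k 2 * tE 2 i j + ent A k 3 * tE 3 i j +
    ent A k 4 * tE 4 i j + ent A k 5 * tE 5 i j + ent A k 6 * tE 6 i j

/-- The coded test. -/
def chk (A : C7) : Bool :=
  (List.finRange 7).all fun k => (List.finRange 7).all fun i => (List.finRange 7).all fun j =>
    Nat.beq (lhsC A k i j % 3) (rhsC A k i j % 3)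

theorem lhsC_cast (A : C7) (k i j : Fin 7) :
    ((lhsC A k i j : ℕ) : ZMod 3) = ((dC A)ᵀ * tmat k * dC A) i j := by
  unfold lhsC tmat
  induction (termsL.getD k []) with
  | nil => simp
  | cons t L ih =>
    simp only [List.map_cons, List.sum_cons, Nat.cast_add, Nat.cast_mul, ih, Matrix.mul_add,
      Matrix.add_mul, Matrix.add_apply]
    congr 1
    simp [Matrix.mul_apply, Matrix.single_apply, dC_apply, Finset.sum_ite_eq, ite_and, mul_comm,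
      mul_assoc, mul_left_comm]

theorem tE_cast (l i j : Fin 7) : ((tE l i j : ℕ) : ZMod 3) = tmat l i j := by
  unfold tE tmat
  induction (termsL.getD l []) with
  | nil => simp
  | cons t L ih =>
    simp only [List.map_cons, List.sum_cons, Nat.cast_add, ih, Matrix.add_apply, Matrix.single_apply]
    congr 1
    split_ifs <;> simp_all

theorem rhsC_cast (A : C7) (k i j : Fin 7) :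
    ((rhsC A k i j : ℕ) : ZMod 3) = (∑ l, dC A k l • tmat l) i j := by
  simp only [rhsC, Nat.cast_add, Nat.cast_mul, tE_cast, Fin.sum_univ_seven, Matrix.add_apply,
    Matrix.smul_apply, smul_eq_mul, dC_apply]
  rfl

theorem chk_iff (A : C7) : chk A = true ↔ Pres (dC A) := by
  simp only [chk, List.all_eq_true, List.mem_finRange, true_implies, Nat.beq_eq, Pres]
  refine forall_congr' fun k => ?_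
  rw [← Matrix.ext_iff]
  refine forall₂_congr fun i j => ?_
  rw [← lhsC_cast, ← rhsC_cast, ZMod.natCast_eq_natCast_iff']

theorem gens_chk : ∀ g ∈ gensL, chk g = true := by decide +kernel

theorem y_ki : mulC (krylovC yC [0, 0, 0, 0, 0, 0, 1]) yKi = oneC := by decide +kernel

theorem z_ki : mulC (krylovC zC [0, 0, 0, 0, 0, 0, 1]) zKi = oneC := by decide +kernel

/-- The zero matrix. -/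
def zeroC : C7 := (List.range 7).map fun _ => (List.range 7).map fun _ => 0

theorem dC_zero : dC zeroC = 0 := by
  ext i j
  rw [dC_apply, zeroC, ent_table (fun _ _ => 0)]
  simp

theorem y_pows : ∀ A ∈ yPows, ∃ i : Fin 7, dC A = dC yC ^ (i : ℕ) := by decide +kernel

theorem z_pows : ∀ A ∈ zPows, ∃ i : Fin 13, dC A = dC zC ^ (i : ℕ) := by decide +kernel

theorem y_check : (vecs 7).all (fun w => !chk (mulC (krylovC yC w) yKi) ||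
    ((zeroC :: yPows).contains (mulC (krylovC yC w) yKi))) = true := by decide +kernel

theorem z_check : (vecs 7).all (fun w => !chk (mulC (krylovC zC w) zKi) ||
    ((zeroC :: zPows).contains (mulC (krylovC zC w) zKi))) = true := by decide +kernel

theorem cand {Y Ki : C7} {L : List C7} (hK : mulC (krylovC Y [0, 0, 0, 0, 0, 0, 1]) Ki = oneC)
    (hc : (vecs 7).all (fun w => !chk (mulC (krylovC Y w) Ki) ||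
      ((zeroC :: L).contains (mulC (krylovC Y w) Ki))) = true)
    {M : M7} (hM : Pres M) (h0 : M ≠ 0) (hcomm : M * dC Y = dC Y * M) : ∃ A ∈ L, M = dC A := by
  set e : List ℕ := [0, 0, 0, 0, 0, 0, 1]
  set w : List ℕ := List.ofFn fun i => ((M *ᵥ dV e) i).val
  have hMeq : M = dC (mulC (krylovC Y w) Ki) := by
    rw [dC_mul, dC_krylov, dV_ofFn, ← mul_krylov hcomm, Matrix.mul_assoc, ← dC_krylov, ← dC_mul,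
      hK, dC_one, Matrix.mul_one]
  have hmem : w ∈ vecs 7 := mem_vecs 7 _ fun i => ZMod.val_lt _
  have h := List.all_eq_true.1 hc w hmem
  rw [show chk (mulC (krylovC Y w) Ki) = true from (chk_iff _).2 (hMeq ▸ hM)] at h
  simp only [Bool.not_true, Bool.false_or, List.contains_eq_mem, decide_eq_true_eq] at h
  rcases List.mem_cons.1 h with h | h
  · rw [h, dC_zero] at hMeq
    exact absurd hMeq h0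
  · exact ⟨_, h, hMeq⟩

theorem s_order : mulC (mulC (mulC sC sC) sC) (mulC (mulC sC sC) sC) = oneC ∧
    dC (mulC sC sC) ≠ 1 ∧ dC (mulC (mulC sC sC) sC) ≠ 1 := by decide +kernel

end Cfsg.Agent.G23
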