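import Mathlib
import Cfsg.Agent.Lib.Compute.PermCert

/-! The field with four elements and six by six coded matrices over it. -/

set_option autoImplicit false

namespace Cfsg.Agent.G24

open Matrix

/-- The field with four elements: `re + wu·ω`, `ω² = ω + 1`. -/
structure F4 where
  /-- The coordinate at one. -/
  re : ZMod 2
  /-- The coordinate at `ω`. -/
  wu : ZMod 2
deriving DecidableEq

namespace F4

/-- Elements are pairs. -/
def equivProd : F4 ≃ ZMod 2 × ZMod 2 :=
  ⟨fun a => (a.re, a.wu), fun p => ⟨p.1, p.2⟩, fun _ => rfl, fun _ => rfl⟩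

instance : Fintype F4 := Fintype.ofEquiv _ equivProd.symm

theorem card : Fintype.card F4 = 4 := by
  rw [Fintype.card_congr equivProd, Fintype.card_prod, ZMod.card]

instance : Zero F4 := ⟨⟨0, 0⟩⟩
instance : One F4 := ⟨⟨1, 0⟩⟩
instance : Add F4 := ⟨fun a b => ⟨a.re + b.re, a.wu + b.wu⟩⟩
instance : Neg F4 := ⟨fun a => a⟩
instance : Mul F4 :=
  ⟨fun a b => ⟨a.re * b.re + a.wu * b.wu, a.re * b.wu + a.wu * b.re + a.wu * b.wu⟩⟩
instance : Inv F4 := ⟨fun a => a * a⟩

instance : CommRing F4 where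
  add_assoc := by decide +kernel
  zero_add := by decide +kernel
  add_zero := by decide +kernel
  add_comm := by decide +kernel
  neg_add_cancel := by decide +kernel
  mul_assoc := by decide +kernel
  one_mul := by decide +kernel
  mul_one := by decide +kernel
  left_distrib := by decide +kernel
  right_distrib := by decide +kernel
  zero_mul := by decide +kernel
  mul_zero := by decide +kernel
  mul_comm := by decide +kernel
  nsmul := nsmulRec
  zsmul := zsmulRec
  npow := npowRec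

instance : Field F4 where
  exists_pair_ne := ⟨0, 1, by decide +kernel⟩
  mul_inv_cancel := by decide +kernel
  inv_zero := by decide +kernel
  nnqsmul := _
  qsmul := _

end F4

/-- Decoding. -/
def dE (n : ℕ) : F4 := ⟨((n % 2 : ℕ) : ZMod 2), ((n / 2 % 2 : ℕ) : ZMod 2)⟩

/-- Encoding. -/
def enc (x : F4) : ℕ := x.re.val + 2 * x.wu.val

theorem dE_enc : ∀ x : F4, dE (enc x) = x := by decide +kernel

/-- Coded addition. -/
def addE (a b : ℕ) : ℕ := (a + b) % 2 + 2 * ((a / 2 + b / 2) % 2)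

/-- Coded multiplication. -/
def mulE (a b : ℕ) : ℕ :=
  (a * b + (a / 2) * (b / 2)) % 2 + 2 * ((a * (b / 2) + (a / 2) * b + (a / 2) * (b / 2)) % 2)

theorem dE_mk (r s : ℕ) (hr : r < 2) (hs : s < 2) :
    dE (r + 2 * s) = ⟨(r : ZMod 2), (s : ZMod 2)⟩ := by
  unfold dE
  rw [show (r + 2 * s) % 2 = r by omega, show (r + 2 * s) / 2 % 2 = s by omega]

theorem dE_add (a b : ℕ) : dE (addE a b) = dE a + dE b := by
  rw [addE, dE_mk _ _ (Nat.mod_lt _ (by norm_num)) (Nat.mod_lt _ (by norm_num))]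
  simp only [dE, ZMod.natCast_mod]
  push_cast
  rfl

theorem dE_mul (a b : ℕ) : dE (mulE a b) = dE a * dE b := by
  rw [mulE, dE_mk _ _ (Nat.mod_lt _ (by norm_num)) (Nat.mod_lt _ (by norm_num))]
  simp only [dE, ZMod.natCast_mod]
  push_cast
  rfl

/-- Six by six matrices. -/
abbrev M6 := Matrix (Fin 6) (Fin 6) F4

/-- Coded matrices: 36 entries of two bits each, packed in a natural number. -/
abbrev C6 := ℕ

/-- A coded entry. -/
def ent (A : C6) (i j : ℕ) : ℕ := PermCert.get 2 A (6 * i + j)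

/-- Decoding a matrix. -/
def dC (A : C6) : M6 := Matrix.of fun i j => dE (ent A i j)

theorem dC_apply (A : C6) (i j : Fin 6) : dC A i j = dE (ent A i j) := rfl

/-- Packing a table. -/
def table (f : ℕ → ℕ → ℕ) : C6 := PermCert.pack 2 (fun k => f (k / 6) (k % 6)) 36

/-- The coded identity. -/
def oneC : C6 := table fun i j => if i = j then 1 else 0

/-- The coded zero. -/
def zeroC : C6 := table fun _ _ => 0

/-- Multiplication of a packed row by `ω`. -/
def omRow (v : ℕ) : ℕ :=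
  Nat.lor (Nat.land (Nat.shiftRight v 1) 1365)
    (Nat.shiftLeft (Nat.xor (Nat.land v 1365) (Nat.land (Nat.shiftRight v 1) 1365)) 1)

/-- Multiplication of a packed row by a coded scalar. -/
def rowMul (c v : ℕ) : ℕ :=
  bif Nat.beq c 0 then 0 else bif Nat.beq c 1 then v else
    bif Nat.beq c 2 then omRow v else Nat.xor v (omRow v)

/-- A row of a coded matrix. -/
def rowOf (A : C6) (k : ℕ) : ℕ := PermCert.get 12 A k

/-- A row of a product. -/
def mulRow (A B : C6) (i : ℕ) : ℕ :=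
  Nat.xor (Nat.xor (Nat.xor (rowMul (ent A i 0) (rowOf B 0)) (rowMul (ent A i 1) (rowOf B 1)))
    (Nat.xor (rowMul (ent A i 2) (rowOf B 2)) (rowMul (ent A i 3) (rowOf B 3))))
    (Nat.xor (rowMul (ent A i 4) (rowOf B 4)) (rowMul (ent A i 5) (rowOf B 5)))

/-- The coded product. -/
def mulC (A B : C6) : C6 := PermCert.pack 12 (mulRow A B) 6

/-- The coded sum. -/
def addC (A B : C6) : C6 :=
  table fun i j => addE (ent A i j) (ent B i j)

/-- The coded transpose. -/
def trC (A : C6) : C6 := table fun i j => ent A j i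

theorem ent_table (f : ℕ → ℕ → ℕ) (i j : Fin 6) : ent (table f) i j = f i j % 4 := by
  have hi := i.2
  have hj := j.2
  rw [ent, table, PermCert.get_pack _ _ _ _ (by omega), show (6 * (i : ℕ) + j) / 6 = i by omega,
    show (6 * (i : ℕ) + j) % 6 = j by omega]
  norm_num

theorem dE_mod (n : ℕ) : dE (n % 4) = dE n := by
  unfold dE
  rw [show n % 4 % 2 = n % 2 by omega, show n % 4 / 2 % 2 = n / 2 % 2 by omega]

theorem dC_one : dC oneC = 1 := by
  ext i j
  rw [dC_apply, oneC, ent_table (fun a b => if a = b then 1 else 0), dE_mod]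
  by_cases h : i = j
  · subst h; rw [if_pos rfl, Matrix.one_apply_eq]; rfl
  · rw [if_neg (fun e => h (Fin.ext e)), Matrix.one_apply_ne h]; rfl

theorem dC_zero : dC zeroC = 0 := by
  ext i j
  rw [dC_apply, zeroC, ent_table (fun _ _ => 0), dE_mod]
  rfl

theorem get_get (A : C6) (k j : ℕ) (hj : j < 6) :
    PermCert.get 2 (PermCert.get 12 A k) j = PermCert.get 2 A (6 * k + j) := by
  unfold PermCert.get
  have hj2 : j = 0 ∨ j = 1 ∨ j = 2 ∨ j = 3 ∨ j = 4 ∨ j = 5 := by omega
  simp only [Nat.shiftRight_eq_div_pow]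
  rw [show 2 * (6 * k + j) = 12 * k + 2 * j by ring, pow_add, ← Nat.div_div_eq_div_mul]
  generalize A / 2 ^ (12 * k) = x
  rcases hj2 with rfl | rfl | rfl | rfl | rfl | rfl <;> norm_num <;> omega

theorem get_xor (a b j : ℕ) :
    PermCert.get 2 (Nat.xor a b) j = Nat.xor (PermCert.get 2 a j) (PermCert.get 2 b j) := by
  show ((a ^^^ b) >>> (2 * j)) % 2 ^ 2 = ((a >>> (2 * j)) % 2 ^ 2) ^^^ ((b >>> (2 * j)) % 2 ^ 2)
  rw [Nat.shiftRight_xor_distrib, Nat.xor_mod_two_pow]

theorem dE_xor4 : ∀ a b : Fin 4, dE (Nat.xor a b) = dE a + dE b := by decide +kernel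

theorem dE_get_xor (a b j : ℕ) :
    dE (PermCert.get 2 (Nat.xor a b) j) = dE (PermCert.get 2 a j) + dE (PermCert.get 2 b j) := by
  rw [get_xor]
  exact dE_xor4 ⟨_, PermCert.get_lt 2 a j⟩ ⟨_, PermCert.get_lt 2 b j⟩

/-- A test for all numbers below 4096. -/
def all4096 (f : ℕ → Bool) : Bool :=
  PermCert.allBelow (fun a => PermCert.allBelow (fun b => f (64 * a + b)) 64) 64

theorem all4096_spec (f : ℕ → Bool) (h : all4096 f = true) (v : ℕ) (hv : v < 4096) : f v = true := by
  have h2 := PermCert.allBelow_spec _ _ (PermCert.allBelow_spec _ _ h (v / 64) (by omega)) (v % 64)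
    (Nat.mod_lt _ (by norm_num))
  rwa [show 64 * (v / 64) + v % 64 = v by omega] at h2

theorem om_check : all4096 (fun v => PermCert.allBelow (fun j =>
    Nat.beq (PermCert.get 2 (omRow v) j) (mulE 2 (PermCert.get 2 v j))) 6) = true := by
  decide +kernel

theorem dE_rowMul (c v : ℕ) (hc : c < 4) (hv : v < 4096) (j : ℕ) (hj : j < 6) :
    dE (PermCert.get 2 (rowMul c v) j) = dE c * dE (PermCert.get 2 v j) := by
  have hom : dE (PermCert.get 2 (omRow v) j) = dE 2 * dE (PermCert.get 2 v j) := by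
    rw [Nat.eq_of_beq_eq_true (PermCert.allBelow_spec _ _
      (all4096_spec _ om_check v hv) j hj), dE_mul]
  have hc' : c = 0 ∨ c = 1 ∨ c = 2 ∨ c = 3 := by omega
  rcases hc' with rfl | rfl | rfl | rfl
  · show dE (PermCert.get 2 0 j) = _
    rw [show dE 0 = 0 from rfl, zero_mul, PermCert.get, Nat.zero_shiftRight, Nat.zero_mod]
    rfl
  · show dE (PermCert.get 2 v j) = _
    rw [show dE 1 = 1 from rfl, one_mul]
  · exact hom
  · show dE (PermCert.get 2 (Nat.xor v (omRow v)) j) = _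
    rw [dE_get_xor, hom, show dE 3 = 1 + dE 2 by decide +kernel, add_mul, one_mul]

theorem dE_row (A B : C6) (i k j : ℕ) (hj : j < 6) :
    dE (PermCert.get 2 (rowMul (ent A i k) (rowOf B k)) j) = dE (ent A i k) * dE (ent B k j) := by
  rw [dE_rowMul (ent A i k) (rowOf B k) (PermCert.get_lt 2 _ _) (PermCert.get_lt 12 _ _) j hj,
    rowOf, get_get _ _ _ hj]
  rfl

theorem dC_mul (A B : C6) : dC (mulC A B) = dC A * dC B := by
  ext i j
  have h : ent (mulC A B) i j = PermCert.get 2 (mulRow A B i % 2 ^ 12) j := by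
    rw [ent, ← get_get _ _ _ j.2, mulC, PermCert.get_pack _ _ _ _ i.2]
  have hmod : PermCert.get 2 (mulRow A B i % 2 ^ 12) j = PermCert.get 2 (mulRow A B i) j := by
    have e1 : mulRow A B i % 2 ^ 12 = PermCert.get 12 (mulRow A B i) 0 := by
      simp [PermCert.get]
    rw [e1, get_get _ _ _ j.2, mul_zero, zero_add]
  rw [dC_apply, h, hmod, mulRow]
  simp only [dE_get_xor, dE_row _ _ _ _ _ j.2, Matrix.mul_apply, Fin.sum_univ_six, dC_apply]
  simp only [Fin.isValue, Fin.val_zero, Fin.val_one, Fin.val_two]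
  abel_nf
  rfl

theorem dC_add (A B : C6) : dC (addC A B) = dC A + dC B := by
  ext i j
  rw [dC_apply, addC, ent_table, dE_mod, dE_add]
  rfl

theorem dC_tr (A : C6) : dC (trC A) = (dC A)ᵀ := by
  ext i j
  rw [dC_apply, trC, ent_table (fun a b => ent A b a), dE_mod]
  rfl

/-- The matrix of the transposed action on packed vectors: `v ↦ v·B`. -/
def mvT (B : C6) (v : ℕ) : ℕ := mulRow v B 0

/-- Decoding a vector. -/
def dV (v : ℕ) : Fin 6 → F4 := fun i => dE (PermCert.get 2 v i)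

theorem mulRow_lt (A B : C6) (i : ℕ) : mulRow A B i < 4096 := by
  have hx : ∀ a b : ℕ, a < 4096 → b < 4096 → Nat.xor a b < 4096 := fun a b ha hb =>
    Nat.xor_lt_two_pow (n := 12) ha hb
  have hr : ∀ c k, rowMul c (rowOf B k) < 4096 := by
    intro c k
    have h := PermCert.get_lt 12 B k
    have hom : omRow (rowOf B k) < 4096 := by
      refine Nat.or_lt_two_pow (n := 12) (lt_of_le_of_lt Nat.and_le_right (by norm_num)) ?_
      rw [show Nat.shiftLeft (Nat.xor (Nat.land (rowOf B k) 1365)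
          (Nat.land (Nat.shiftRight (rowOf B k) 1) 1365)) 1 =
        (Nat.xor (Nat.land (rowOf B k) 1365) (Nat.land (Nat.shiftRight (rowOf B k) 1) 1365)) <<< 1
          from rfl, Nat.shiftLeft_eq]
      have := Nat.xor_lt_two_pow (n := 11)
        (lt_of_le_of_lt (Nat.and_le_right (n := rowOf B k) (m := 1365)) (by norm_num))
        (lt_of_le_of_lt (Nat.and_le_right (n := Nat.shiftRight (rowOf B k) 1) (m := 1365))
          (by norm_num))
      calc _ < 2 ^ 11 * 2 ^ 1 := by exact Nat.mul_lt_mul_of_pos_right this (by norm_num)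
        _ = 2 ^ 12 := by norm_num
    unfold rowMul
    rcases Nat.beq c 0 with _ | _ <;> rcases Nat.beq c 1 with _ | _ <;>
      rcases Nat.beq c 2 with _ | _ <;> simp only [cond] <;>
      first | exact h | exact hom | exact hx _ _ h hom | norm_num
  unfold mulRow
  exact hx _ _ (hx _ _ (hx _ _ (hr _ _) (hr _ _)) (hx _ _ (hr _ _) (hr _ _)))
    (hx _ _ (hr _ _) (hr _ _))

theorem dV_mv (Y : M6) (B : C6) (hB : dC B = Yᵀ) (v : ℕ) : dV (mvT B v) = Y *ᵥ dV v := by
  funext i
  have hY : ∀ k : Fin 6, dE (ent B k i) = Y i k := fun k => by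
    rw [← dC_apply, hB, Matrix.transpose_apply]
  have hv : ∀ k : ℕ, ent v 0 k = PermCert.get 2 v k := fun k => by
    rw [ent, mul_zero, zero_add]
  show dE (PermCert.get 2 (mulRow v B 0) i) = _
  rw [mulRow]
  rw [dE_get_xor, dE_get_xor, dE_get_xor, dE_get_xor, dE_get_xor, dE_row _ _ _ _ _ i.2,
    dE_row _ _ _ _ _ i.2, dE_row _ _ _ _ _ i.2, dE_row _ _ _ _ _ i.2, dE_row _ _ _ _ _ i.2,
    dE_row _ _ _ _ _ i.2]
  simp only [hv, Matrix.mulVec, dotProduct, Fin.sum_univ_six, ← hY, dV]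
  simp only [Fin.isValue, Fin.val_zero, Fin.val_one, Fin.val_two]
  simp only [mul_comm]
  abel_nf
  rfl

theorem dV_surj (w : Fin 6 → F4) : ∃ v, v < 4096 ∧ dV v = w := by
  refine ⟨PermCert.pack 2 (fun i => if h : i < 6 then enc (w ⟨i, h⟩) else 0) 6,
    PermCert.pack_lt 2 _ 6, funext fun i => ?_⟩
  simp only [dV, PermCert.get_pack _ _ _ _ i.2, show (2 : ℕ) ^ 2 = 4 from rfl, dE_mod, dif_pos i.2,
    Fin.eta, dE_enc]

/-- The Krylov matrix of a vector. -/
def krylov (Y : M6) (v : Fin 6 → F4) : M6 := Matrix.of fun i j => ((Y ^ (j : ℕ)) *ᵥ v) i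

/-- The coded transposed Krylov matrix. -/
def krylovT (B : C6) (v : ℕ) : C6 :=
  PermCert.pack 12 (fun j => Nat.rec v (fun _ u => mvT B u) j) 6

theorem dC_krylov (Y : M6) (B : C6) (hB : dC B = Yᵀ) (v : ℕ) (hv : v < 4096) :
    dC (krylovT B v) = (krylov Y (dV v))ᵀ := by
  have hlt : ∀ n : ℕ, Nat.rec v (fun _ u => mvT B u) n < 4096 := by
    intro n
    cases n with
    | zero => exact hv
    | succ n => exact mulRow_lt _ _ _
  have hit : ∀ n : ℕ, dV (Nat.rec v (fun _ u => mvT B u) n) = (Y ^ n) *ᵥ dV v := by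
    intro n
    induction n with
    | zero => rw [pow_zero, one_mulVec]; rfl
    | succ n ih => rw [pow_succ', ← Matrix.mulVec_mulVec, ← ih, ← dV_mv Y B hB]
  ext i j
  show _ = ((Y ^ (i : ℕ)) *ᵥ dV v) j
  rw [← hit, dC_apply, ent, ← get_get _ _ _ j.2, krylovT, PermCert.get_pack _ _ _ _ i.2,
    show (2 : ℕ) ^ 12 = 4096 from rfl, Nat.mod_eq_of_lt (hlt _)]
  rfl

theorem mul_krylov {M Y : M6} (h : M * Y = Y * M) (v : Fin 6 → F4) :
    M * krylov Y v = krylov Y (M *ᵥ v) := by
  ext i j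
  have : (M * krylov Y v) i j = (M *ᵥ ((Y ^ (j : ℕ)) *ᵥ v)) i := rfl
  rw [this, Matrix.mulVec_mulVec, (show Commute M Y from h).pow_right (j : ℕ), ← Matrix.mulVec_mulVec]
  rfl

end Cfsg.Agent.G24
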