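import Cfsg.Agent.Lib.PrimeGraphG2.F4
import Cfsg.Prelude.Def_SteinbergCover
import Cfsg.Prelude.Def_ChevG2

/-! The six-dimensional representation of G2(4): data and kernel checks. -/

set_option autoImplicit false
set_option maxRecDepth 20000

namespace Cfsg.Agent.G24

open Matrix Cfsg.Lie

/-- The images of the root elements. -/
def xL : List C6 :=
  [1180663682709764194305,
   1180663682709768388865,
   1180663682709772583425,
   1180663682709776777985,
   1180663682709764194305,
   1180663682726944063553,
   1180663682744123932801,
   1180663682761303802049,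
   1180663682709764194305,
   1180663682714059424769,
   1180663682718354656257,
   1180663682722649884673,
   1180663682709764194305,
   1180663753078509420561,
   1180663823447255695393,
   1180663893815998824497,
   1180663682709764194305,
   1180951913086989647877,
   1181240143465288843273,
   1181528373840366813197,
   1180663682709764194305,
   1180663700301950304257,
   1180663717894136414209,
   1180663735486322524161,
   1180663682709764194305,
   1180681697108340785153,
   1180699711506917376001,
   1180717725905493966849,
   1180663682709764194305,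
   1475811588988628652033,
   1770959496367004737537,
   2066107400446845939713,
   1180663682709764194305,
   1254451784904526020609,
   1328241012999194689537,
   1402026863394142830593,
   1180663682709764194305,
   1181821108088876318721,
   1184131454972595290113,
   1182983037342493720577,
   1180663682709764194305,
   1199110426852193222657,
   1217557170994622251009,
   1236003915137051279361,
   1180663682709764194305,
   1185275650203168292865,
   1189887617696572391425,
   1194499585189976489985]

/-- A word. -/
def w6 : List (Fin 12 × ℕ) :=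
  [(10, 3), (3, 3), (1, 2)]

/-- Its matrix. -/
def w6C : C6 :=
  55412292254978557105

/-- A word. -/
def w10 : List (Fin 12 × ℕ) :=
  [(9, 2), (3, 2), (8, 2)]

/-- Its matrix. -/
def w10C : C6 :=
  1347850693204297957410

/-- A word. -/
def w7 : List (Fin 12 × ℕ) :=
  [(9, 3), (1, 3), (3, 1)]

/-- Its matrix. -/
def w7C : C6 :=
  113648465016486120657

/-- A word. -/
def w13 : List (Fin 12 × ℕ) :=
  [(5, 1), (4, 2), (1, 1), (9, 1)]

/-- Its matrix. -/
def w13C : C6 :=
  1182398291378382409805

/-- Data. -/
def w7Inv : C6 :=
  36894666970182142977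

/-- Data. -/
def w13Inv : C6 :=
  2135386022482508182528

/-- Data. -/
def w13Ki : C6 :=
  496979315473589143283

/-- Data. -/
def jC : C6 :=
  1154048505100108800

/-- Data. -/
def w13T : C6 :=
  1941609894346117068437

/-- Data. -/
def w13KiT : C6 :=
  1497083194105924931

/-- Data. -/
def x7T : C6 :=
  1180951913086989647877

/-- The scalar matrices. -/
def scal : List C6 :=
  [0,
   1180663682709764194305,
   2361327365419528388610,
   3541991048129292582915]

/-- The image of a root element. -/
def xC (r : ℕ) (t : ℕ) : C6 := if r < 12 then xL.getD (4 * r + t) oneC else oneC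

/-- The product of a word. -/
def evW : List (ℕ × F4) → C6
  | [] => oneC
  | p :: w => mulC (xC p.1 (enc p.2)) (evW w)

/-- The product of a coded word. -/
def evC : List (Fin 12 × ℕ) → C6
  | [] => oneC
  | p :: w => mulC (xC p.1 p.2) (evC w)

theorem r1_check : ∀ (r : Fin 12) (t u : F4),
    mulC (xC r (enc t)) (xC r (enc u)) = xC r (enc (t + u)) := by decide +kernel

/-- The test of one instance of the commutator formula. -/
def r2Test (r s : Fin 12) (t u : F4) : Bool :=
  Nat.beq (s : ℕ) r || Nat.beq (s : ℕ) (chevG2.neg r) ||
    Nat.beq (mulC (mulC (mulC (xC s (enc u)) (xC r (enc t))) (xC s (enc u))) (xC r (enc t)))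
      (evW (chevG2.commWord F4 r s t u))

theorem r2_check : ∀ (r s : Fin 12) (t u : F4), r2Test r s t u = true := by decide +kernel

theorem form_check : ∀ (r : Fin 12) (t : F4),
    mulC (mulC (trC (xC r (enc t))) jC) (xC r (enc t)) = jC := by decide +kernel

theorem words_check : evC w6 = w6C ∧ evC w10 = w10C ∧ evC w7 = w7C ∧ evC w13 = w13C := by
  decide +kernel

theorem inv_check : mulC (addC w7C oneC) w7Inv = oneC ∧ mulC (addC w13C oneC) w13Inv = oneC ∧
    mulC w13KiT (krylovT w13T 1024) = oneC := by decide +kernel

/-- The transposed candidate matrix for one vector. -/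
def candC (v : ℕ) : C6 := mulC w13KiT (krylovT w13T v)

/-- The test of one candidate. -/
def candTest (v : ℕ) : Bool :=
  !Nat.beq (mulC (candC v) x7T) (mulC x7T (candC v)) ||
    scal.any fun s => Nat.beq (candC v) s

theorem cent_check : all4096 candTest = true := by decide +kernel

theorem tr_check : trC w13C = w13T ∧ trC (xC 7 1) = x7T := by decide +kernel

theorem scal_check : ∀ s ∈ scal, ∃ c : F4, dC s = Matrix.scalar (Fin 6) c := by decide +kernel

theorem pow_check :
    (dC w7C) ^ 7 = 1 ∧ dC w7C ≠ 1 ∧ (dC w13C) ^ 13 = 1 ∧ dC w13C ≠ 1 ∧
      (dC w6C) ^ 6 = 1 ∧ (dC w6C) ^ 2 ≠ 1 ∧ (dC w6C) ^ 3 ≠ 1 ∧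
      (dC w10C) ^ 10 = 1 ∧ (dC w10C) ^ 2 ≠ 1 ∧ (dC w10C) ^ 5 ≠ 1 := by decide +kernel

end Cfsg.Agent.G24
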