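import Cfsg.Agent.Lib.PrimeGraphG2.G24Data
import Cfsg.Agent.Lib.Lie.CovMain
import Cfsg.Agent.Lib.Lie.SteinbergPerfect
import Cfsg.Agent.Lib.Lie.ChevSimple
import Cfsg.Agent.Lib.Lie.OrderG2
import Cfsg.Agent.S2396

/-! The six-dimensional representation of G2(4). -/

set_option autoImplicit false
set_option maxRecDepth 20000
set_option linter.style.haveILetI false

namespace Cfsg.Agent.G24

open Matrix Cfsg.Lie

/-- The group. -/
abbrev G4 := ↥(chevG2.group F4)

theorem enc_zero : enc (0 : F4) = 0 := by decide +kernel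

theorem xC_zero : ∀ r : Fin 12, xC r 0 = oneC := by decide +kernel

theorem xC_self (r : ℕ) (hr : r < 12) (t : F4) :
    dC (xC r (enc t)) * dC (xC r (enc t)) = 1 := by
  have h0 : t + t = 0 := (by decide +kernel : ∀ x : F4, x + x = 0) t
  rw [← dC_mul, show mulC (xC r (enc t)) (xC r (enc t)) = xC r (enc (t + t)) from r1_check ⟨r, hr⟩ t t,
    h0, enc_zero, show xC r 0 = oneC from xC_zero ⟨r, hr⟩, dC_one]

theorem xC_self' (r : ℕ) (t : F4) : dC (xC r (enc t)) * dC (xC r (enc t)) = 1 := by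
  by_cases hr : r < 12
  · exact xC_self r hr t
  · rw [xC, if_neg hr, dC_one, Matrix.one_mul]

/-- A generator's image, as a unit. -/
def xU (r : ℕ) (t : F4) : M6ˣ := ⟨dC (xC r (enc t)), dC (xC r (enc t)), xC_self' r t, xC_self' r t⟩

theorem xU_inv (r : ℕ) (t : F4) : (xU r t)⁻¹ = xU r t := Units.ext rfl

/-- The images of the free generators. -/
def gen6 (p : Fin chevG2.nroots × F4) : M6ˣ := xU (p.1 : ℕ) p.2

theorem lift_stX (r : ℕ) (t : F4) : FreeGroup.lift gen6 (chevG2.stX r t) = xU r t := by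
  unfold ChevalleyDatum.stX
  split_ifs with h
  · rw [FreeGroup.lift_apply_of]; rfl
  · rw [map_one]
    refine Units.ext ?_
    show (1 : M6) = dC (xC r (enc t))
    rw [xC, if_neg (show ¬ r < 12 from h), dC_one]

theorem lift_stWord : ∀ w : List (ℕ × F4),
    ((FreeGroup.lift gen6 (chevG2.stWord w) : M6ˣ) : M6) = dC (evW w)
  | [] => by
    show ((FreeGroup.lift gen6 1 : M6ˣ) : M6) = dC oneC
    rw [map_one, dC_one, Units.val_one]
  | p :: w => by
    show ((FreeGroup.lift gen6 (chevG2.stX p.1 p.2 * chevG2.stWord w) : M6ˣ) : M6) =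
      dC (mulC (xC p.1 (enc p.2)) (evW w))
    rw [map_mul, Units.val_mul, lift_stX, lift_stWord w, dC_mul]
    rfl

theorem rels_hold : ∀ g ∈ chevG2.steinbergRelsAB F4, FreeGroup.lift gen6 g = 1 := by
  intro g hg
  rcases hg with ⟨r, t1, t2, hr, rfl⟩ | ⟨r, s, t, u, hr, hs, hsr, hsn, rfl⟩
  · rw [map_mul, map_mul, map_inv, lift_stX, lift_stX, lift_stX, mul_inv_eq_one]
    refine Units.ext ?_
    rw [Units.val_mul]
    show dC (xC r (enc t1)) * dC (xC r (enc t2)) = dC (xC r (enc (t1 + t2)))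
    rw [← dC_mul]
    exact congrArg dC (r1_check ⟨r, hr⟩ t1 t2)
  · rw [map_mul, map_mul, map_mul, map_mul, map_inv, map_inv, map_inv, lift_stX, lift_stX, xU_inv,
      xU_inv, mul_inv_eq_one]
    refine Units.ext ?_
    rw [Units.val_mul, Units.val_mul, Units.val_mul, lift_stWord]
    show dC (xC s (enc u)) * dC (xC r (enc t)) * dC (xC s (enc u)) * dC (xC r (enc t)) = _
    rw [← dC_mul, ← dC_mul, ← dC_mul]
    refine congrArg dC ?_
    have h := r2_check ⟨r, hr⟩ ⟨s, hs⟩ t u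
    simp only [r2Test, Bool.or_eq_true, Nat.beq_eq] at h
    rcases h with (h | h) | h
    · exact absurd h hsr
    · exact absurd h hsn
    · exact h

/-- The representation of the presented group. -/
def sigma : chevG2.SteinbergCover F4 →* M6ˣ := PresentedGroup.toGroup rels_hold

theorem sigma_scGen (r : ℕ) (t : F4) : sigma (chevG2.scGen F4 r t) = xU r t := lift_stX r t

theorem exists_word : ∀ w : List (Fin 12 × ℕ), (∀ p ∈ w, p.2 < 4) →
    ∃ g : chevG2.SteinbergCover F4, ((sigma g : M6ˣ) : M6) = dC (evC w)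
  | [], _ => ⟨1, by rw [map_one, Units.val_one]; exact dC_one.symm⟩
  | p :: w, hw => by
    obtain ⟨g, hg⟩ := exists_word w fun q hq => hw q (List.mem_cons_of_mem _ hq)
    refine ⟨chevG2.scGen F4 (p.1 : ℕ) (dE p.2) * g, ?_⟩
    rw [map_mul, Units.val_mul, hg, sigma_scGen]
    show dC (xC p.1 (enc (dE p.2))) * _ = dC (mulC (xC p.1 p.2) (evC w))
    rw [dC_mul, show enc (dE p.2) = p.2 from
      (by decide +kernel : ∀ n : Fin 4, enc (dE n) = n) ⟨p.2, hw p List.mem_cons_self⟩]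

theorem sigma_form (g : chevG2.SteinbergCover F4) :
    ((sigma g : M6ˣ) : M6)ᵀ * dC jC * ((sigma g : M6ˣ) : M6) = dC jC := by
  let S : Subgroup M6ˣ :=
    { carrier := {u | (u : M6)ᵀ * dC jC * (u : M6) = dC jC}
      one_mem' := by simp
      mul_mem' := fun {a b} ha hb => by
        show ((a : M6) * (b : M6))ᵀ * dC jC * ((a : M6) * (b : M6)) = dC jC
        rw [Matrix.transpose_mul, show (b : M6)ᵀ * (a : M6)ᵀ * dC jC * ((a : M6) * (b : M6)) =
          (b : M6)ᵀ * ((a : M6)ᵀ * dC jC * (a : M6)) * (b : M6) by simp only [Matrix.mul_assoc]]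
        rw [show (a : M6)ᵀ * dC jC * (a : M6) = dC jC from ha]
        exact hb
      inv_mem' := fun {a} ha => by
        show ((a⁻¹ : M6ˣ) : M6)ᵀ * dC jC * ((a⁻¹ : M6ˣ) : M6) = dC jC
        conv_lhs => rw [← show (a : M6)ᵀ * dC jC * (a : M6) = dC jC from ha]
        simp only [← Matrix.mul_assoc, ← Matrix.transpose_mul]
        simp only [Units.mul_inv, Matrix.transpose_one, Matrix.one_mul]
        rw [Matrix.mul_assoc, Units.mul_inv, Matrix.mul_one] }
  refine PresentedGroup.generated_by _ (S.comap sigma) (fun p => ?_) g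
  show ((sigma (PresentedGroup.of p) : M6ˣ) : M6)ᵀ * dC jC *
    ((sigma (PresentedGroup.of p) : M6ˣ) : M6) = dC jC
  rw [show sigma (PresentedGroup.of p) = gen6 p from PresentedGroup.toGroup.of rels_hold]
  show (dC (xC p.1 (enc p.2)))ᵀ * dC jC * dC (xC p.1 (enc p.2)) = dC jC
  rw [← dC_tr, ← dC_mul, ← dC_mul]
  exact congrArg dC (form_check p.1 p.2)

theorem ext_digits : ∀ (n A B : ℕ), A < 4 ^ n → B < 4 ^ n →
    (∀ k < n, PermCert.get 2 A k = PermCert.get 2 B k) → A = B
  | 0, A, B, hA, hB, _ => by simp at hA hB; omega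
  | n + 1, A, B, hA, hB, h => by
    have h0 := h 0 (Nat.succ_pos n)
    simp only [PermCert.get, mul_zero, Nat.shiftRight_zero] at h0
    have hrec := ext_digits n (A / 4) (B / 4)
      (by rw [Nat.div_lt_iff_lt_mul (by norm_num)]; rwa [pow_succ] at hA)
      (by rw [Nat.div_lt_iff_lt_mul (by norm_num)]; rwa [pow_succ] at hB)
      fun k hk => by
        have e : ∀ X : ℕ, PermCert.get 2 (X / 4) k = PermCert.get 2 X (k + 1) := fun X => by
          simp only [PermCert.get, Nat.shiftRight_eq_div_pow, Nat.div_div_eq_div_mul]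
          rw [show 2 * (k + 1) = 2 + 2 * k by ring, pow_add]
          norm_num
        rw [e, e]
        exact h (k + 1) (by omega)
    norm_num at h0
    omega

theorem dC_inj {A B : C6} (hA : A < 2 ^ (12 * 6)) (hB : B < 2 ^ (12 * 6)) (h : dC A = dC B) :
    A = B := by
  refine ext_digits 36 A B (by norm_num at hA ⊢; exact hA) (by norm_num at hB ⊢; exact hB)
    fun k hk => ?_
  have e := congrFun (congrFun h ⟨k / 6, by omega⟩) ⟨k % 6, Nat.mod_lt _ (by norm_num)⟩
  rw [dC_apply, dC_apply] at e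
  have e2 : ∀ a b : Fin 4, dE a = dE b → a = b := by decide +kernel
  have := congrArg Fin.val (e2 ⟨_, PermCert.get_lt 2 A _⟩ ⟨_, PermCert.get_lt 2 B _⟩ e)
  simp only at this
  rwa [show 6 * (k / 6) + k % 6 = k by omega] at this

theorem eq_one_of_central {g : chevG2.SteinbergCover F4}
    (hg : g ∈ Subgroup.center (chevG2.SteinbergCover F4)) : sigma g = 1 := by
  obtain ⟨y, hy⟩ := exists_word w13 (by decide)
  rw [words_check.2.2.2] at hy
  set M : M6 := ((sigma g : M6ˣ) : M6) with hM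
  have hc : ∀ a : chevG2.SteinbergCover F4, M * ((sigma a : M6ˣ) : M6) = (sigma a : M6ˣ) * M :=
    fun a => by
      rw [hM, ← Units.val_mul, ← Units.val_mul, ← map_mul, ← map_mul, Subgroup.mem_center_iff.1 hg a]
  have hY : M * dC w13C = dC w13C * M := hy ▸ hc y
  have hX : M * dC (xC 7 1) = dC (xC 7 1) * M := by
    have h := hc (chevG2.scGen F4 7 1)
    rw [sigma_scGen] at h
    exact h
  obtain ⟨v, hv, hdv⟩ := dV_surj (M *ᵥ dV 1024)
  have hT : dC w13T = (dC w13C)ᵀ := by rw [← tr_check.1, dC_tr]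
  have hMT : dC (candC v) = Mᵀ := by
    have h1 : dC w13KiT * (krylov (dC w13C) (dV 1024))ᵀ = 1 := by
      rw [← dC_krylov _ _ hT 1024 (by norm_num), ← dC_mul, inv_check.2.2, dC_one]
    rw [candC, dC_mul, dC_krylov _ _ hT v hv, hdv, ← mul_krylov hY, Matrix.transpose_mul,
      ← Matrix.mul_assoc, h1, Matrix.one_mul]
  have hcomm : Nat.beq (mulC (candC v) x7T) (mulC x7T (candC v)) = true := by
    have hwf : ∀ A B : C6, mulC A B < 2 ^ (12 * 6) := fun A B => PermCert.pack_lt _ _ _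
    rw [Nat.beq_eq]
    refine dC_inj (hwf _ _) (hwf _ _) ?_
    rw [dC_mul, dC_mul, hMT, ← tr_check.2, dC_tr, ← Matrix.transpose_mul, ← Matrix.transpose_mul, hX]
  have h := all4096_spec _ cent_check v hv
  rw [candTest, hcomm] at h
  simp only [Bool.not_true, Bool.false_or, List.any_eq_true, Nat.beq_eq] at h
  obtain ⟨s, hs, e⟩ := h
  obtain ⟨c, hsc⟩ := scal_check s hs
  rw [e, hsc] at hMT
  have hMc : M = Matrix.scalar (Fin 6) c := by
    rw [← Matrix.transpose_transpose M, ← hMT]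
    simp [Matrix.scalar_apply]
  have hform := sigma_form g
  rw [← hM, hMc] at hform
  have hc1 : c = 1 := by
    have h1 := congrFun (congrFun hform 0) 5
    simp [Matrix.scalar_apply, Matrix.diagonal_mul, Matrix.mul_diagonal,
      show dC jC 0 5 = 1 by decide +kernel] at h1
    revert h1
    revert c
    intro c _ _ _ _
    exact (by decide +kernel : ∀ x : F4, x * x = 1 → x = 1) c
  refine Units.ext ?_
  rw [← hM, hMc, hc1, map_one, Units.val_one]

theorem exists_psi : ∃ ψ : G4 →* M6ˣ, ∀ g : chevG2.SteinbergCover F4, ∃ a, ψ a = sigma g := by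
  obtain ⟨θ, hs, hk, -⟩ := S2396.result (K := F4) chevG2 (by simp)
    (fun _ => ⟨⟨0, 1⟩, by decide +kernel⟩)
  refine ⟨θ.liftOfSurjective hs ⟨sigma, fun g hg => eq_one_of_central (hk hg)⟩,
    fun g => ⟨θ g, MonoidHom.liftOfRightInverse_comp_apply _ _ _ _ g⟩⟩

theorem card_G4 : Nat.card G4 = 251596800 := by
  have h := Chev.Tab.card_group_formula (F := F4) (T := Chev.G2Data.tab) (q := 4)
    ⟨Chev.G2Data.good, by decide +kernel⟩ F4.card
    Chev.G2Data.torOK Chev.G2Data.chainOK Chev.G2Data.polyOK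
  simp only [Chev.G2Data.cert, List.map_cons, List.map_nil, List.prod_cons, List.prod_nil, mul_one,
    pow_zero, pow_one, one_mul, ← mul_assoc] at h
  exact h.trans (by decide +kernel)

theorem isSimple_G4 : IsSimpleGroup G4 := by
  have h : IsSimpleGroup ↥(chevG2.group F4) ∧ ¬ IsMulCommutative ↥(chevG2.group F4) := by
    obtain ⟨T, g, hT, -⟩ := Chev.exists_goodS (D := Cfsg.Lie.chevG2) (by simp)
    rw [← hT]
    exact Chev.Tab.group_simple g (Or.inr ⟨⟨0, 1⟩, by decide +kernel⟩)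
  exact h.1

theorem order_of_three {M : M6} {n a b : ℕ} (hn : M ^ n = 1) (ha : M ^ a ≠ 1) (hb : M ^ b ≠ 1)
    (hdiv : ∀ d, d ∣ n → d = n ∨ d ∣ a ∨ d ∣ b) : orderOf M = n := by
  rcases hdiv _ (orderOf_dvd_of_pow_eq_one hn) with h | h | h
  · exact h
  · exact absurd (orderOf_dvd_iff_pow_eq_one.1 h) ha
  · exact absurd (orderOf_dvd_iff_pow_eq_one.1 h) hb

/-- The representation with the needed elements. -/
theorem exists_rep : ∃ ψ : G4 →* M6ˣ,
    (∃ x : G4, orderOf x = 6) ∧ (∃ x : G4, orderOf x = 10) ∧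
    (∃ x : G4, orderOf x = 7 ∧ ∀ v : Fin 6 → F4, (ψ x : M6) *ᵥ v = v → v = 0) ∧
    (∃ x : G4, orderOf x = 13 ∧ ∀ v : Fin 6 → F4, (ψ x : M6) *ᵥ v = v → v = 0) := by
  obtain ⟨ψ, hψ⟩ := exists_psi
  haveI := isSimple_G4
  obtain ⟨hw6, hw10, hw7, hw13⟩ := words_check
  have get' : ∀ (w : List (Fin 12 × ℕ)) (C : C6), (∀ p ∈ w, p.2 < 4) → evC w = C →
      ∃ a : G4, (ψ a : M6) = dC C := by
    intro w C hw e
    obtain ⟨g, hg⟩ := exists_word w hw
    obtain ⟨a, ha⟩ := hψ g
    exact ⟨a, by rw [ha, hg, e]⟩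
  obtain ⟨a6, h6⟩ := get' w6 _ (by decide) hw6
  obtain ⟨a10, h10⟩ := get' w10 _ (by decide) hw10
  obtain ⟨a7, h7⟩ := get' w7 _ (by decide) hw7
  obtain ⟨a13, h13⟩ := get' w13 _ (by decide) hw13
  obtain ⟨p7, n7, p13, n13, p6, q6, r6, p10, q10, r10⟩ := pow_check
  have hinj : Function.Injective ψ := by
    refine (injective_iff_map_eq_one ψ).2 fun x hx => ?_
    rcases (inferInstance : ψ.ker.Normal).eq_bot_or_eq_top with h | h
    · exact (Subgroup.eq_bot_iff_forall _).1 h x hx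
    · refine absurd ?_ n7
      rw [← h7, MonoidHom.mem_ker.1 (h ▸ Subgroup.mem_top a7), Units.val_one]
  have ho : ∀ (a : G4) (C : C6), (ψ a : M6) = dC C → orderOf a = orderOf (dC C) := fun a C e => by
    rw [← orderOf_injective ψ hinj, ← orderOf_units, e]
  have fpf : ∀ (a : G4) (C I : C6), (ψ a : M6) = dC C → mulC (addC C oneC) I = oneC →
      ∀ v : Fin 6 → F4, (ψ a : M6) *ᵥ v = v → v = 0 := by
    intro a C I e hI v hv
    have h1 := congrArg dC hI
    rw [dC_mul, dC_add, dC_one] at h1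
    have h2 : (dC C + 1) *ᵥ v = 0 := by
      rw [Matrix.add_mulVec, Matrix.one_mulVec, ← e, hv]
      funext i
      exact (by decide +kernel : ∀ x : F4, x + x = 0) (v i)
    have h3 : (dC I * (dC C + 1)) *ᵥ v = v := by
      rw [mul_eq_one_comm.1 h1, Matrix.one_mulVec]
    rwa [← Matrix.mulVec_mulVec, h2, Matrix.mulVec_zero, eq_comm] at h3
  refine ⟨ψ, ⟨a6, ?_⟩, ⟨a10, ?_⟩, ⟨a7, ?_, fpf a7 _ _ h7 inv_check.1⟩,
    ⟨a13, ?_, fpf a13 _ _ h13 inv_check.2.1⟩⟩
  · rw [ho _ _ h6]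
    refine order_of_three p6 q6 r6 fun d hd => ?_
    have := Nat.le_of_dvd (by norm_num) hd
    interval_cases d <;> first | omega | (norm_num at hd ⊢)
  · rw [ho _ _ h10]
    refine order_of_three p10 q10 r10 fun d hd => ?_
    have := Nat.le_of_dvd (by norm_num) hd
    interval_cases d <;> first | omega | (norm_num at hd ⊢)
  · haveI : Fact (Nat.Prime 7) := ⟨by norm_num⟩
    rw [ho _ _ h7, orderOf_eq_prime p7 n7]
  · haveI : Fact (Nat.Prime 13) := ⟨by norm_num⟩
    rw [ho _ _ h13, orderOf_eq_prime p13 n13]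

end Cfsg.Agent.G24
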